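import Groth.Agent.FormalAmpleLib.Vanish
import Groth.Agent.AmpleEmb.Generated
import Groth.Agent.ProjBundleLib.FTQuot
import Groth.Agent.S10945

/-!
# Uniform global generation on the thickenings
-/

set_option autoImplicit false
set_option linter.style.haveILetI false
set_option backward.isDefEq.respectTransparency false
set_option maxHeartbeats 1000000

universe u

open CategoryTheory CategoryTheory.Limits AlgebraicGeometry TopologicalSpace Opposite
open Groth.Agent.PullbackMod Groth.Agent.DCohLib

noncomputable section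

namespace Groth.Agent.FormalAmple

variable {X Y : Scheme.{u}}

theorem isGloballyGenerated_of_stalkGen {r : ℕ} {M N : X.Modules} {g : Fin r → (M ⟶ N)}
    (hg : FormalSys.StalkGen g) (hM : Curv2.IsGloballyGenerated M) : Curv2.IsGloballyGenerated N := by
  refine AmpleEmb.isGloballyGenerated_of_span
    (ι := ULift.{u} (Fin r) × Γ(M, ⊤)) (fun p => (g p.1.down).app ⊤ p.2) fun x => eq_top_iff.2 fun y _ => ?_
  obtain ⟨z, rfl⟩ := hg x y
  refine Submodule.sum_mem _ fun j _ => ?_
  have h := ProjBundleLib.span_germ_of_isGloballyGenerated hM x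
  have hz : stalkLin (g j) x (z j) ∈ (Submodule.span (X.presheaf.stalk x)
      (Set.range fun σ : Γ(M, ⊤) => M.presheaf.germ ⊤ x (Opens.mem_top x) σ)).map (stalkLin (g j) x) :=
    Submodule.mem_map_of_mem (h ▸ Submodule.mem_top)
  rw [Submodule.map_span] at hz
  refine Submodule.span_le.2 ?_ hz
  rintro _ ⟨_, ⟨σ, rfl⟩, rfl⟩
  exact Submodule.subset_span ⟨(⟨j⟩, σ), (stalkLin_germ (g j) x (U := ⊤) trivial σ).symm⟩

theorem isGloballyGenerated_push (i : X ⟶ Y) [IsClosedImmersion i] [Surjective i] {M : X.Modules}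
    (hM : Curv2.IsGloballyGenerated M) : Curv2.IsGloballyGenerated ((Scheme.Modules.pushforward i).obj M) := by
  let N := (Scheme.Modules.pushforward i).obj M
  refine AmpleEmb.isGloballyGenerated_of_span (ι := Γ(N, ⊤)) id fun y => eq_top_iff.2 fun w _ => ?_
  obtain ⟨x, rfl⟩ := i.surjective y
  have h := ProjBundleLib.span_germ_of_isGloballyGenerated hM x
  have key : ∀ v ∈ Submodule.span (X.presheaf.stalk x)
      (Set.range fun σ : Γ(M, ⊤) => M.presheaf.germ ⊤ x (Opens.mem_top x) σ),
      ∀ w : N.presheaf.stalk (i x), pushStalk i M x w = v → w ∈ Submodule.span (Y.presheaf.stalk (i x))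
        (Set.range fun s : Γ(N, ⊤) => N.presheaf.germ ⊤ (i x) trivial (id s)) := by
    intro v hv
    induction hv using Submodule.span_induction with
    | mem v hv =>
      obtain ⟨σ, rfl⟩ := hv
      intro w hw
      exact Submodule.subset_span ⟨σ, (bijective_pushStalk i M x).1 ((pushStalk_germ i M x (W := ⊤) trivial σ).trans hw.symm)⟩
    | zero =>
      intro w hw
      rw [(bijective_pushStalk i M x).1 (hw.trans (map_zero _).symm)]
      exact Submodule.zero_mem _
    | add v v' _ _ hv hv' =>
      intro w hw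
      obtain ⟨a, ha⟩ := (bijective_pushStalk i M x).2 v
      obtain ⟨b, hb⟩ := (bijective_pushStalk i M x).2 v'
      rw [(bijective_pushStalk i M x).1 (hw.trans ((congrArg₂ (· + ·) ha hb).symm.trans (map_add _ a b).symm))]
      exact Submodule.add_mem _ (hv a ha) (hv' b hb)
    | smul c v _ hv =>
      intro w hw
      obtain ⟨a, ha⟩ := (bijective_pushStalk i M x).2 v
      obtain ⟨c, rfl⟩ := i.stalkMap_surjective x c
      rw [(bijective_pushStalk i M x).1 (hw.trans ((congrArg (i.stalkMap x c • ·) ha.symm).trans (pushStalk_smul i M x c a).symm))]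
      exact Submodule.smul_mem _ c (hv a ha)
  exact key _ (h ▸ Submodule.mem_top) w rfl

theorem surjective_g {T : ShortComplex X.Modules} (hT : T.ShortExact) (h : Subsingleton (Coh.HH X T.X₁ 1)) :
    Function.Surjective (T.g.app ⊤) := by
  haveI := hT.epi_g
  refine SerreAff.surjective_top T.g (CurveLib.subsingleton_HH_iso ?_ 1 h)
  exact hT.fIsKernel.conePointUniqueUpToIso (limit.isLimit _)

variable {A : Type u} [CommRing A] [IsNoetherianRing A] {J : Ideal A} {T : Tow A J} [IsProper (T.p 0)]

/-- Uniform global generation on a tower of thickenings. -/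
theorem exists_generated (E : CohSys T) (L : ∀ k, (T.X k).Modules) (hL : ∀ k, PicF.IsInvertible (L k))
    (φ : ∀ k, Nonempty ((Scheme.Modules.pullback (T.i k)).obj (L (k + 1)) ≅ L k)) (ha : CohB1.IsAmple (L 0)) :
    ∃ N : ℕ, ∀ n, N ≤ n → ∀ k : ℕ,
      Curv2.IsGloballyGenerated (CohB1.tensorMod (E.F k) (CohB1.tensorPow (L k) n)) := by
  classical
  haveI := T.isNoetherian 0
  obtain ⟨n₁, h₁⟩ := exists_vanish E L hL φ ha
  obtain ⟨n₂, h₂⟩ := AmpleEmb.eventually_isGloballyGenerated ha (E.coh 0)
  obtain ⟨r, f, hf⟩ := Submodule.fg_iff_exists_fin_generating_family.1 (IsNoetherian.noetherian J)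
  have hmem : ∀ j, f j ∈ J := fun j => by rw [← hf]; exact Submodule.subset_span ⟨j, rfl⟩
  refine ⟨max n₁ n₂, fun n hn => ?_⟩
  let P := CohB1.tensorPow (L 0) n
  have hK : ∀ k, Curv2.IsGloballyGenerated (CohB1.tensorMod (E.K k) P) := by
    intro k
    induction k with
    | zero =>
      exact AmpleLib.isGloballyGenerated_of_iso (AmpleLib.tIso ((Scheme.Modules.pullbackId (T.X 0)).app (E.F 0)).symm
        (Iso.refl P)) (h₂ n (le_of_max_le_right hn))
    | succ k ih => exact isGloballyGenerated_of_stalkGen ((E.stalkGen_m f hf hmem k).tensor P) ih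
  have hS : ∀ k, Curv2.IsGloballyGenerated (tmod (E.S k) (CohB1.tensorPow (L k) n)) := by
    intro k
    obtain ⟨e⟩ := exists_system_iso L φ k
    let c : tmod (E.K k) P ≅ tmod (E.K k) ((Scheme.Modules.pullback (T.ι k)).obj (CohB1.tensorPow (L k) n)) :=
      AmpleLib.tIso (Iso.refl _) (AmpleLib.pullPow (T.ι k) (L k) n ≪≫ AmpleLib.powCongr e n).symm
    haveI := isIso_unit_of_suppOn (T.ι k) (E.suppOn_S k)
    refine AmpleLib.isGloballyGenerated_of_iso
      ((projIso (T.ι k) (E.K k) (CohB1.tensorPow (L k) n)).symm ≪≫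
        AmpleLib.tIso (asIso ((Scheme.Modules.pullbackPushforwardAdjunction (T.ι k)).unit.app (E.S k))).symm
          (Iso.refl _)) ?_
    exact isGloballyGenerated_push (T.ι k) (AmpleLib.isGloballyGenerated_of_iso c (hK k))
  intro k
  induction k with
  | zero => exact hS 0
  | succ k ih =>
    haveI := T.isNoetherian (k + 1)
    have hses : (ShortComplex.mk (kernel.ι (E.π k)) (E.π k) (kernel.condition _)).ShortExact :=
      ShortComplex.ShortExact.mk' (ShortComplex.exact_of_f_is_kernel _ (kernelIsKernel _)) inferInstance inferInstance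
    have hLn := AmpleLib.isInvertible_tensorPow (hL (k + 1)) n
    have hT := CurveLib.shortExact_tensR hses (CurveLib.freeAt_one_of_isInvertible hLn)
    refine S10945.result (T.X (k + 1)) _ hT
      (surjective_g hT (h₁ n (le_of_max_le_left hn) (k + 1) 1 one_pos).1) (hS (k + 1)) ?_
    let c : tmod (E.F k) (CohB1.tensorPow (L k) n) ≅
        tmod (E.F k) ((Scheme.Modules.pullback (T.i k)).obj (CohB1.tensorPow (L (k + 1)) n)) :=
      AmpleLib.tIso (Iso.refl _) (AmpleLib.pullPow (T.i k) (L (k + 1)) n ≪≫ AmpleLib.powCongr (φ k).some n).symm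
    exact AmpleLib.isGloballyGenerated_of_iso (projIso (T.i k) (E.F k) (CohB1.tensorPow (L (k + 1)) n)).symm
      (isGloballyGenerated_push (T.i k) (AmpleLib.isGloballyGenerated_of_iso c ih))

end Groth.Agent.FormalAmple
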