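import Groth.Prelude.Def_CohB1

/-!
# Kernels on stalks of a base change of a closed immersion of affine schemes
-/

set_option autoImplicit false
set_option linter.style.haveILetI false
set_option backward.isDefEq.respectTransparency false

universe u

open CategoryTheory CategoryTheory.Limits AlgebraicGeometry TopologicalSpace Opposite IsLocalRing

noncomputable section

namespace Groth.Agent.FormalAmple

variable {X : Scheme.{u}} {B : CommRingCat.{u}}

/-- The functions of the base in a local ring. -/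
def baseStalk (p : X ⟶ Spec B) (x : X) : B ⟶ X.presheaf.stalk x :=
  (Scheme.ΓSpecIso B).inv ≫ p.appTop ≫ X.presheaf.germ ⊤ x trivial

theorem fromSpecStalk_comp (p : X ⟶ Spec B) (x : X) :
    X.fromSpecStalk x ≫ p = Spec.map (baseStalk p x) := by
  have h : p = X.toSpecΓ ≫ Spec.map ((Scheme.ΓSpecIso B).inv ≫ p.appTop) := by
    rw [Spec.map_comp, ← Scheme.toSpecΓ_naturality_assoc]
    simp [← SpecMap_ΓSpecIso_hom, ← Spec.map_comp]
  conv_lhs => rw [h]
  rw [Scheme.fromSpecStalk_toSpecΓ_assoc, ← Spec.map_comp, baseStalk]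
  simp

theorem stalkMap_baseStalk {Z : Scheme.{u}} (i : Z ⟶ X) (p : X ⟶ Spec B) (z : Z) (b : B) :
    i.stalkMap z (baseStalk p (i z) b) = baseStalk (i ≫ p) z b := by
  simp only [baseStalk, CommRingCat.comp_apply, Scheme.Hom.comp_appTop]
  rw [Scheme.Hom.germ_stalkMap_apply]
  rfl

theorem baseStalk_comp {B' : CommRingCat.{u}} (q : X ⟶ Spec B') (ψ : B ⟶ B') (x : X) (b : B) :
    baseStalk (q ≫ Spec.map ψ) x b = baseStalk q x (ψ b) := by
  simp only [baseStalk, Scheme.Hom.comp_appTop]
  have h := ConcreteCategory.congr_hom (Scheme.ΓSpecIso_inv_naturality ψ) b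
  simp only [CommRingCat.comp_apply] at h ⊢
  rw [h]

variable {Z : Scheme.{u}} {B' : CommRingCat.{u}} {ψ : B ⟶ B'} {i : Z ⟶ X} {q : Z ⟶ Spec B'} {p : X ⟶ Spec B}

theorem ker_stalkMap_of_isPullback (h : IsPullback i q p (Spec.map ψ)) (hψ : Function.Surjective ψ) (z : Z) :
    RingHom.ker (i.stalkMap z).hom = (RingHom.ker ψ.hom).map (baseStalk p (i z)).hom := by
  haveI : IsClosedImmersion (Spec.map ψ) := IsClosedImmersion.spec_of_surjective ψ hψ
  haveI : IsClosedImmersion i := MorphismProperty.of_isPullback h.flip inferInstance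
  have hge : (RingHom.ker ψ.hom).map (baseStalk p (i z)).hom ≤ RingHom.ker (i.stalkMap z).hom := by
    refine Ideal.map_le_iff_le_comap.2 fun b hb => ?_
    rw [Ideal.mem_comap, RingHom.mem_ker]
    show i.stalkMap z (baseStalk p (i z) b) = 0
    rw [stalkMap_baseStalk, show i ≫ p = q ≫ Spec.map ψ from h.w, baseStalk_comp,
      show ψ b = 0 from RingHom.mem_ker.1 hb, map_zero]
  refine le_antisymm (fun a ha => ?_) hge
  let x := i z
  let I := (RingHom.ker ψ.hom).map (baseStalk p x).hom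
  have hI : I ≠ ⊤ := fun e => by
    have h1 := hge (show (1 : X.presheaf.stalk x) ∈ I from e ▸ Submodule.mem_top)
    rw [RingHom.mem_ker, map_one] at h1
    exact one_ne_zero h1
  haveI : Nontrivial (X.presheaf.stalk x ⧸ I) := Ideal.Quotient.nontrivial_iff.mpr hI
  haveI : IsLocalRing (X.presheaf.stalk x ⧸ I) :=
    IsLocalRing.of_surjective' (Ideal.Quotient.mk I) Ideal.Quotient.mk_surjective
  let qx : X.presheaf.stalk x ⟶ CommRingCat.of (X.presheaf.stalk x ⧸ I) :=
    CommRingCat.ofHom (Ideal.Quotient.mk I)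
  haveI : IsLocalHom qx.hom :=
    IsLocalHom.of_surjective (Ideal.Quotient.mk I) Ideal.Quotient.mk_surjective
  let k0 : B' ⟶ CommRingCat.of (X.presheaf.stalk x ⧸ I) :=
    CommRingCat.ofHom (RingHom.liftOfSurjective ψ.hom hψ
      ⟨(Ideal.Quotient.mk I).comp (baseStalk p x).hom, fun b hb =>
        Ideal.Quotient.eq_zero_iff_mem.mpr (Ideal.mem_map_of_mem _ hb)⟩)
  have hk : ψ ≫ k0 = baseStalk p x ≫ qx := by
    ext b
    exact RingHom.liftOfRightInverse_comp_apply ψ.hom (Function.surjInv hψ) (Function.rightInverse_surjInv hψ)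
      ⟨(Ideal.Quotient.mk I).comp (baseStalk p x).hom, fun b hb =>
        Ideal.Quotient.eq_zero_iff_mem.mpr (Ideal.mem_map_of_mem _ hb)⟩ b
  let l : Spec (CommRingCat.of (X.presheaf.stalk x ⧸ I)) ⟶ Z :=
    h.lift (Spec.map qx ≫ X.fromSpecStalk x) (Spec.map k0) (by
      rw [Category.assoc, fromSpecStalk_comp, ← Spec.map_comp, ← Spec.map_comp, hk])
  have hl : l ≫ i = Spec.map qx ≫ X.fromSpecStalk x := h.lift_fst _ _ _
  let c := closedPoint (X.presheaf.stalk x ⧸ I)
  have hx' : i (l c) = x := by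
    rw [← Scheme.Hom.comp_apply, hl, Scheme.Hom.comp_apply]
    exact (congrArg (X.fromSpecStalk x) Spec_closedPoint).trans X.fromSpecStalk_closedPoint
  have hc : l c = z := i.isEmbedding.injective hx'
  obtain ⟨U, hxU, sec, rfl⟩ := TopCat.Presheaf.exists_germ_eq X.presheaf a
  show X.presheaf.germ U x hxU sec ∈ I
  rw [← Ideal.Quotient.eq_zero_iff_mem]
  show qx (X.presheaf.germ U x hxU sec) = 0
  have hU : (Spec.map qx ≫ X.fromSpecStalk x) c ∈ U := by
    rw [← hl, Scheme.Hom.comp_apply, hx']; exact hxU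
  have h1 := ConcreteCategory.congr_hom
    (Scheme.germ_stalkClosedPointTo_Spec_fromSpecStalk qx U hU) sec
  rw [CommRingCat.comp_apply, CommRingCat.comp_apply] at h1
  rw [← h1]
  have key : ∀ (w : Z) (hw : i w ∈ U), w = z → i.stalkMap w (X.presheaf.germ U _ hw sec) = 0 := by
    rintro w hw rfl
    exact ha
  have h2 : ∀ (g : Spec (CommRingCat.of (X.presheaf.stalk x ⧸ I)) ⟶ X) (_ : g = l ≫ i) (hg : g c ∈ U),
      Scheme.stalkClosedPointTo g (X.presheaf.germ U _ hg sec) = 0 := by
    rintro g rfl hg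
    rw [Scheme.stalkClosedPointTo_comp, CommRingCat.comp_apply]
    exact (congrArg _ (key _ hg hc)).trans (map_zero _)
  exact h2 _ hl.symm hU

end Groth.Agent.FormalAmple
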