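import Groth.Agent.FormalAmpleLib.Invertible
import Groth.Agent.AmpleEmb.SpreadAmple
import Groth.Agent.AmpleLib.RelLocal

/-!
# Ampleness from the special fibre
-/

set_option autoImplicit false
set_option linter.style.haveILetI false
set_option backward.isDefEq.respectTransparency false
set_option maxHeartbeats 1000000

universe u

open CategoryTheory CategoryTheory.Limits AlgebraicGeometry TopologicalSpace Opposite
open Groth.Agent.AmpleLib

noncomputable section

namespace Groth.Agent.FormalAmple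

/-- A morphism from the spectrum of a field whose point lies in `V(I)` factors through the closed subscheme. -/
theorem exists_factor_specQuot {A K : Type u} [CommRing A] [Field K] {I : Ideal A}
    (ψ : Spec (CommRingCat.of K) ⟶ Spec (CommRingCat.of A)) (h : ∀ z, ψ z ∈ Set.range (CohB1.specQuot I 0)) :
    ∃ r : Spec (CommRingCat.of K) ⟶ Spec (CommRingCat.of (A ⧸ I ^ (0 + 1))), r ≫ CohB1.specQuot I 0 = ψ := by
  obtain ⟨φ, rfl⟩ : ∃ φ : CommRingCat.of A ⟶ CommRingCat.of K, Spec.map φ = ψ := ⟨Spec.preimage ψ, Spec.map_preimage _⟩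
  have hφ : ∀ a ∈ I ^ (0 + 1), φ.hom a = 0 := fun a ha => by
    obtain ⟨y₀, hy₀⟩ := h (⟨⊥, Ideal.isPrime_bot⟩ : PrimeSpectrum K)
    have hmem : a ∈ (CohB1.specQuot I 0 y₀).asIdeal := by
      show Ideal.Quotient.mk (I ^ (0 + 1)) a ∈ y₀.asIdeal
      rw [Ideal.Quotient.eq_zero_iff_mem.2 ha]
      exact Ideal.zero_mem _
    rw [hy₀] at hmem
    exact (Submodule.mem_bot K).1 hmem
  refine ⟨Spec.map (CommRingCat.ofHom (Ideal.Quotient.lift (I ^ (0 + 1)) φ.hom hφ)), ?_⟩
  rw [CohB1.specQuot, ← Spec.map_comp]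
  rfl

variable {A : Type u} [CommRing A] [IsNoetherianRing A] {I : Ideal A} [IsAdicComplete I A]

/-- An invertible module on a proper scheme over a complete ring which is ample on the special fibre is ample. -/
theorem isAmple_of_special {W X₀ : Scheme.{u}} (g : W ⟶ Spec (CommRingCat.of A)) [IsProper g] {M : W.Modules}
    (hM : PicF.IsInvertible M) {e₀ : X₀ ⟶ W} {p₀ : X₀ ⟶ Spec (CommRingCat.of (A ⧸ I ^ (0 + 1)))}
    (hsq : IsPullback e₀ p₀ g (CohB1.specQuot I 0))
    (ha : CohB1.IsAmple ((Scheme.Modules.pullback e₀).obj M)) : CohB1.IsAmple M := by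
  haveI : IsNoetherianRing (CommRingCat.of A) := ‹IsNoetherianRing A›
  have hfib : ∀ y ∈ Set.range (CohB1.specQuot I 0),
      CohB1.IsAmple ((Scheme.Modules.pullback (g.fiberι y)).obj M) := fun y hy => by
    obtain ⟨r, hr⟩ := exists_factor_specQuot (I := I) (K := (Spec (CommRingCat.of A)).residueField y)
      ((Spec (CommRingCat.of A)).fromSpecResidueField y) fun z =>
        Set.mem_of_eq_of_mem ((Set.ext_iff.1 ((Spec (CommRingCat.of A)).range_fromSpecResidueField y) _).1 ⟨z, rfl⟩) hy
    have hfac : g.fiberι y ≫ g = (g.fiberToSpecResidueField y ≫ r) ≫ CohB1.specQuot I 0 := by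
      rw [Category.assoc, hr]
      exact g.fiber_fac y
    let j := hsq.lift _ _ hfac
    have hbig : IsPullback (j ≫ e₀) (g.fiberToSpecResidueField y) g (r ≫ CohB1.specQuot I 0) := by
      rw [hr, hsq.lift_fst]
      exact IsPullback.of_hasPullback _ _
    have hj : IsPullback j (g.fiberToSpecResidueField y) p₀ r :=
      IsPullback.of_right hbig (hsq.lift_snd _ _ _) hsq
    haveI : IsAffineHom j := MorphismProperty.of_isPullback hj.flip inferInstance
    refine isAmple_of_iso ?_ (isAmple_pullback j ha)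
    exact (Scheme.Modules.pullbackComp j e₀).app M ≪≫ (Scheme.Modules.pullbackCongr (hsq.lift_fst _ _ hfac)).app M
  refine (isRelAmple_iff_isAmple g).1 (isRelAmple_of_locally fun y => ?_)
  obtain ⟨m, hm, hle⟩ := Ideal.exists_le_maximal y.asIdeal y.2.ne_top
  have hmI : (⟨m, hm.isPrime⟩ : PrimeSpectrum A) ∈ Set.range (CohB1.specQuot I 0) :=
    mem_range_specQuot _ ((IsAdicComplete.le_jacobson_bot I).trans (sInf_le ⟨bot_le, hm⟩))
  obtain ⟨V, hV, hmV, hA⟩ := AmpleEmb.exists_ampleOn_nbhd g _ hM (hfib _ hmI)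
  exact ⟨V, hV, ((PrimeSpectrum.le_iff_specializes y (⟨m, hm.isPrime⟩ : PrimeSpectrum A)).1 hle).mem_open V.2 hmV, hA⟩

end Groth.Agent.FormalAmple
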