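import Groth.Agent.FormalAmpleLib.Embed
import Groth.Agent.AmpleEmb.Serre
import Groth.Agent.AmpleLib.Pullback

/-!
# Compatible projective embeddings of a tower with an ample system
-/

set_option autoImplicit false
set_option linter.style.haveILetI false
set_option backward.isDefEq.respectTransparency false
set_option maxHeartbeats 1000000

universe u

open CategoryTheory CategoryTheory.Limits AlgebraicGeometry TopologicalSpace Opposite
open Groth.Agent.PullbackMod Groth.Agent.DCohLib Groth.Agent.ParaFLib Groth.Agent.AmpleLib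

noncomputable section

namespace Groth.Agent.FormalAmple

theorem surjective_eval_congr {X : Scheme.{u}} {R : Type u} [CommRing R] (φ : R →+* Γ(X, ⊤)) {N : ℕ}
    {U V : X.Opens} (h : U = V) (t : Fin (N + 1) → Γ(X, V)) (t' : Fin (N + 1) → Γ(X, U))
    (ht : ∀ b, X.presheaf.map (homOfLE h.le).op (t b) = t' b)
    (hs : Function.Surjective (MvPolynomial.eval₂Hom (AmpleEmb.constV φ V) t)) :
    Function.Surjective (MvPolynomial.eval₂Hom (AmpleEmb.constV φ U) t') := by
  subst h
  obtain rfl : t = t' := funext fun b => ((res_self _ (t b)).symm.trans (ht b))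
  exact hs
where
  res_self {X : Scheme.{u}} (U : X.Opens) (r : Γ(X, U)) : X.presheaf.map (homOfLE (le_refl U)).op r = r :=
    ConcreteCategory.congr_hom (X.presheaf.map_id _) r

variable {A : Type u} [CommRing A] {J : Ideal A} {T : Tow A J} [IsNoetherianRing A] [IsProper (T.p 0)]

/-- A tower with an ample system embeds compatibly into one projective space. -/
theorem exists_compatible_emb (L : ∀ k, (T.X k).Modules) (hL : ∀ k, PicF.IsInvertible (L k))
    (φ : ∀ k, Nonempty ((Scheme.Modules.pullback (T.i k)).obj (L (k + 1)) ≅ L k)) (ha : CohB1.IsAmple (L 0))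
    [Nonempty (T.X 0)] :
    ∃ (N : ℕ) (e : ∀ k, T.X k ⟶ CohB1.ProjSpace N A), (∀ k, T.i k ≫ e (k + 1) = e k) ∧
      (∀ k, e k ≫ CohB1.ProjSpace.toSpec N A = T.q k) ∧ ∀ k, IsClosedImmersion (e k) := by
  obtain ⟨n₀, h₀⟩ := exists_surjective L hL φ ha
  haveI := T.isNoetherian 0
  haveI := T.isProper_q 0
  have ha₁ : CohB1.IsAmple (CohB1.tensorPow (L 0) (n₀ + 1)) := (isAmple_pow_iff (hL 0) n₀.succ_pos).2 ha
  obtain ⟨P⟩ := AmpleEmb.exists_emb ha₁ (T.q 0) (T.φA 0) rfl
  obtain ⟨E, hF, hsurj⟩ := h₀ ((n₀ + 1) * P.D) (le_trans n₀.le_succ (Nat.le_mul_of_pos_right _ P.hD))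
  have hinv : ∀ k, PicF.IsInvertible (E.F k) := fun k => (hF k).symm ▸ isInvertible_tensorPow (hL k) _
  let iso0 : P.P ≅ E.F 0 := P.iso ≪≫ powMul (L 0) (n₀ + 1) P.D ≪≫ eqToIso (hF 0).symm
  choose S hS using fun a => E.exists_secSys hsurj (sec (P.s a ≫ iso0.hom))
  have hU : ∀ a, locus E S 0 a = CohB1.genLocus P.P (P.s a) := fun a => by
    rw [locus, hS, secHom_sec, genLocus_comp_iso]
  have haff : ∀ a, IsAffineOpen (locus E S 0 a) := fun a => by rw [hU]; exact P.affine a
  have hcov : ∀ x, ∃ a, x ∈ locus E S 0 a := fun x => (P.cover x).imp fun a h => (hU a).ge h.2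
  have happ : ∀ a (V : (T.X 0).Opens), resT ((S a).σ 0) V = iso0.hom.app V (resT (sec (P.s a)) V) := fun a V => by
    rw [hS]
    exact (ConcreteCategory.congr_hom (iso0.hom.mapPresheaf.naturality (homOfLE (le_top : V ≤ ⊤)).op) (sec (P.s a))).symm
  have h0 : ∀ a, AmpleEmb.GenAt (T.φA 0) (fam E hinv S haff hcov 0) a := fun a => by
    refine surjective_eval_congr (T.φA 0) (hU a) (P.t a) _ (fun b => ?_)
      (P.genAt (T.q 0) rfl a)
    refine ratio_unique E S 0 a hinv (Eq.trans ?_ (ratio_spec E hinv S 0 a b).symm)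
    rw [happ, happ]
    have h := congrArg (P.P.presheaf.map (homOfLE (hU a).le).op) (P.ht a b)
    rw [P.P.map_smul, resT, resT, ParaFLib.res_res, ParaFLib.res_res] at h
    refine (Scheme.Modules.Hom.app_smul iso0.hom _ _).symm.trans (congrArg _ ?_)
    exact h
  exact ⟨P.n, emb E hinv S haff hcov, i_emb E hinv S haff hcov, emb_toSpec E hinv S haff hcov,
    isClosedImmersion_emb E hinv S haff hcov h0⟩

/-- The same, the special fibre possibly empty. -/
theorem exists_compatible_emb' (L : ∀ k, (T.X k).Modules) (hL : ∀ k, PicF.IsInvertible (L k))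
    (φ : ∀ k, Nonempty ((Scheme.Modules.pullback (T.i k)).obj (L (k + 1)) ≅ L k)) (ha : CohB1.IsAmple (L 0)) :
    ∃ (N : ℕ) (e : ∀ k, T.X k ⟶ CohB1.ProjSpace N A), (∀ k, T.i k ≫ e (k + 1) = e k) ∧
      (∀ k, e k ≫ CohB1.ProjSpace.toSpec N A = T.q k) ∧ ∀ k, IsClosedImmersion (e k) := by
  rcases isEmpty_or_nonempty (T.X 0) with h | h
  · haveI : ∀ k, IsEmpty (T.X k) := fun k => ⟨fun x => h.false ((T.ι k).surjective x).choose⟩
    exact ⟨0, fun k => isInitialOfIsEmpty.to _, fun k => isInitialOfIsEmpty.hom_ext _ _,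
      fun k => isInitialOfIsEmpty.hom_ext _ _, fun k => inferInstance⟩
  · exact exists_compatible_emb L hL φ ha

end Groth.Agent.FormalAmple
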