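import Groth.Agent.FormalAmpleLib.Main
import Groth.Agent.S3857
import Groth.Agent.S3873
import Groth.Agent.S11778
import Groth.Prelude.Def_FSch3
import Groth.Prelude.Def_FSch4

/-!
# Algebraization of adic systems over the completion of an affine scheme
-/

set_option autoImplicit false
set_option backward.isDefEq.respectTransparency false
set_option linter.style.haveILetI false

universe u

open CategoryTheory CategoryTheory.Limits AlgebraicGeometry

noncomputable section

namespace Groth.Agent.FormalAmpleLib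

theorem exists_iso_subscheme {X Z : Scheme.{u}} (P : X.IdealSheafData) (g : Z ⟶ X) [IsClosedImmersion g]
    (hP : P = g.ker) : ∃ σ : Z ≅ P.subscheme, σ.hom ≫ P.subschemeι = g := by
  subst hP
  exact ⟨asIso g.toImage, g.toImage_imageι⟩

theorem idealSpec_pow (A : Type u) [CommRing A] (I : Ideal A) (m : ℕ) :
    FSch.idealSpec A I ^ m = FSch.idealSpec A (I ^ m) := by
  refine Scheme.IdealSheafData.ext_of_isAffine ?_
  rw [Scheme.IdealSheafData.ideal_pow, Pi.pow_apply, S3873.idealSpec_top, S3873.idealSpec_top, Ideal.map_pow]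

theorem exists_level_iso (A : Type u) [CommRing A] (I : Ideal A) (n : ℕ) :
    ∃ σ : Spec (CommRingCat.of (A ⧸ I ^ (n + 1))) ≅ (FSch.idealSpec A I ^ (n + 1)).subscheme,
      σ.hom ≫ (FSch.idealSpec A I ^ (n + 1)).subschemeι = CohB1.specQuot I n := by
  haveI : IsClosedImmersion (CohB1.specQuot I n) := IsClosedImmersion.spec_of_surjective _ Ideal.Quotient.mk_surjective
  exact exists_iso_subscheme _ _ (idealSpec_pow A I (n + 1))

theorem isPullback_completion {Y S : Scheme.{u}} (g : Y ⟶ S) (K : S.IdealSheafData) (n : ℕ)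
    (h : FSch.PowCompat g (K.comap g) K) :
    IsPullback ((K.comap g) ^ (n + 1)).subschemeι
      (Scheme.IdealSheafData.subschemeMap ((K.comap g) ^ (n + 1)) (K ^ (n + 1)) g
        (Scheme.IdealSheafData.le_map_iff_comap_le.mpr (h n))) g (K ^ (n + 1)).subschemeι :=
  AlgebraicGeometry.isPullback_of_isClosedImmersion _ _ _ _
    (Scheme.IdealSheafData.subschemeMap_subschemeι _ _ _ _).symm
    (by rw [Scheme.IdealSheafData.ker_subschemeι, Scheme.IdealSheafData.ker_subschemeι, S3857.comap_pow])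

/-- A flat proper adic system with projective special fibre and no `H²` is algebraic and projective. -/
theorem exists_algebraization_h2 (A : Type u) [CommRing A] [IsLocalRing A]
    [IsNoetherianRing A] [IsAdicComplete (IsLocalRing.maximalIdeal A) A]
    (𝔛 : FSch.Sys.{u})
    (f : 𝔛 ⟶ FSch.completionAlong (Spec (CommRingCat.of A)) (FSch.idealSpec A (IsLocalRing.maximalIdeal A)))
    (hf : FSch.IsProperHom f) (hflat : ∀ n : ℕ, Flat ((f : FSch.Hom _ _).app n))
    (hproj : ∃ L₀ : (𝔛.X 0).Modules, CohB1.IsAmple L₀)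
    (hH2 : Subsingleton (Coh.HH (𝔛.X 0) (Coh.structureModule (𝔛.X 0)) 2)) :
    ∃ (X : Scheme.{u}) (g : X ⟶ (Spec (CommRingCat.of A))) (L : X.Modules), IsProper g ∧ CohB1.IsAmple L ∧
      ∃ (h : FSch.PowCompat g ((FSch.idealSpec A (IsLocalRing.maximalIdeal A)).comap g) (FSch.idealSpec A (IsLocalRing.maximalIdeal A)))
        (e : 𝔛 ≅ FSch.completionAlong X ((FSch.idealSpec A (IsLocalRing.maximalIdeal A)).comap g)),
        e.hom ≫ FSch.completionMap g ((FSch.idealSpec A (IsLocalRing.maximalIdeal A)).comap g) (FSch.idealSpec A (IsLocalRing.maximalIdeal A)) h = f := by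
  let m := IsLocalRing.maximalIdeal A
  let K := FSch.idealSpec A m
  choose σ hσ using fun n => exists_level_iso A m n
  let p : ∀ n, 𝔛.X n ⟶ Spec (CommRingCat.of (A ⧸ m ^ (n + 1))) := fun n => (f : FSch.Hom _ _).app n ≫ (σ n).inv
  have hσt : ∀ n, CohB1.specQuotTrans m n ≫ (σ (n + 1)).hom =
      (σ n).hom ≫ (FSch.completionAlong (Spec (CommRingCat.of A)) K).ι n := fun n => by
    rw [← cancel_mono (K ^ (n + 1 + 1)).subschemeι, Category.assoc, Category.assoc, hσ]
    refine Eq.trans ?_ ((congrArg ((σ n).hom ≫ ·) (Scheme.IdealSheafData.inclusion_subschemeι _)).trans (hσ n)).symm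
    show CohB1.specQuotTrans m n ≫ CohB1.specQuot m (n + 1) = CohB1.specQuot m n
    simp only [CohB1.specQuot, CohB1.specQuotTrans]
    rw [← Spec.map_comp]
    rfl
  have hcart : ∀ n, IsPullback (𝔛.ι n) (p n) (p (n + 1)) (CohB1.specQuotTrans m n) := fun n =>
    (hf.1 n).paste_vert (IsPullback.of_vert_isIso ⟨by
      rw [← cancel_mono (σ (n + 1)).hom, Category.assoc, Category.assoc, Iso.inv_hom_id, Category.comp_id, hσt,
        Iso.inv_hom_id_assoc]⟩)
  haveI : IsProper (p 0) := by
    haveI := hf.2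
    infer_instance
  haveI : (𝔛.X 0).IsSeparated :=
    ⟨by rw [← terminal.comp_from (p 0)]; infer_instance⟩
  obtain ⟨L₀, hL₀⟩ := hproj
  obtain ⟨L, hL, ⟨φ₀⟩, φ⟩ := S11778.result A 𝔛.X p 𝔛.ι hcart (fun n => by
    haveI := hflat n
    infer_instance) hH2 L₀ hL₀.1
  obtain ⟨Y, g, M, e, hg, -, hM, hsq, hes, -⟩ := FormalAmple.algebraize A m 𝔛.X p 𝔛.ι hcart inferInstance L hL φ
    (AmpleLib.isAmple_of_iso φ₀.symm hL₀)
  have h : FSch.PowCompat g (K.comap g) K := fun n => (S3857.comap_pow K g (n + 1)).le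
  have hsq' : ∀ n, IsPullback (e n) ((f : FSch.Hom _ _).app n) g (K ^ (n + 1)).subschemeι := fun n =>
    IsPullback.of_iso (hsq n) (Iso.refl _) (Iso.refl _) (σ n) (Iso.refl _) (by simp) (by simp [p]) (by simp)
      (by rw [hσ n]; simp)
  let c : ∀ n, 𝔛.X n ≅ ((K.comap g) ^ (n + 1)).subscheme := fun n =>
    (hsq' n).isoIsPullback _ _ (isPullback_completion g K n h)
  have hc1 : ∀ n, (c n).hom ≫ ((K.comap g) ^ (n + 1)).subschemeι = e n := fun n =>
    IsPullback.isoIsPullback_hom_fst _ _ _ _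
  have hcomm : ∀ n, (c n).hom ≫ (FSch.completionAlong Y (K.comap g)).ι n = 𝔛.ι n ≫ (c (n + 1)).hom := fun n => by
    rw [← cancel_mono ((K.comap g) ^ (n + 1 + 1)).subschemeι, Category.assoc, Category.assoc, hc1]
    exact ((congrArg ((c n).hom ≫ ·) (Scheme.IdealSheafData.inclusion_subschemeι _)).trans (hc1 n)).trans (hes n)
  let E : 𝔛 ≅ FSch.completionAlong Y (K.comap g) :=
    { hom := ⟨fun n => (c n).hom, hcomm⟩
      inv := ⟨fun n => (c n).inv, fun n => by
        rw [Iso.inv_comp_eq, ← Category.assoc, hcomm, Category.assoc, Iso.hom_inv_id, Category.comp_id]⟩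
      hom_inv_id := FSch.Hom.ext (funext fun n => (c n).hom_inv_id)
      inv_hom_id := FSch.Hom.ext (funext fun n => (c n).inv_hom_id) }
  exact ⟨Y, g, M, hg, hM, h, E, FSch.Hom.ext (funext fun n =>
    IsPullback.isoIsPullback_hom_snd (h := hsq' n) (h' := isPullback_completion g K n h))⟩

end Groth.Agent.FormalAmpleLib
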