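import Groth.Agent.FormalAmpleLib.Sections
import Groth.Agent.AmpleEmb.Closed
import Groth.Agent.Thicken.Affine

/-!
# Compatible closed immersions into projective space
-/

set_option autoImplicit false
set_option linter.style.haveILetI false
set_option backward.isDefEq.respectTransparency false
set_option maxHeartbeats 1000000

universe u

open CategoryTheory CategoryTheory.Limits AlgebraicGeometry TopologicalSpace Opposite
open Groth.Agent.PullbackMod Groth.Agent.DCohLib Groth.Agent.ParaFLib Groth.Agent.AmpleLib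

noncomputable section

namespace Groth.Agent.FormalAmple

variable {A : Type u} [CommRing A] {J : Ideal A}

namespace Tow

variable (T : Tow A J)

/-- The structure map over the base ring. -/
def q (k : ℕ) : T.X k ⟶ Spec (CommRingCat.of A) := T.p k ≫ CohB1.specQuot J k

theorem i_q (k : ℕ) : T.i k ≫ T.q (k + 1) = T.q k := by
  rw [q, ← Category.assoc, (T.cart k).w, Category.assoc, CohB1.specQuotTrans_specQuot]
  rfl

/-- The constants. -/
def φA (k : ℕ) : A →+* Γ(T.X k, ⊤) :=
  ((Scheme.ΓSpecIso (CommRingCat.of A)).inv ≫ (T.q k).appTop).hom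

theorem constV_φA (k : ℕ) (U : (T.X k).Opens) (a : A) :
    AmpleEmb.constV (T.φA k) U a =
      (T.q k).appLE ⊤ U le_top ((Scheme.ΓSpecIso (CommRingCat.of A)).inv a) := rfl

theorem constV_eq_baseHom (k : ℕ) (U : (T.X k).Opens) (a : A) :
    AmpleEmb.constV (T.φA k) U a = AdicPicLib.baseHom (T.p k) U (Ideal.Quotient.mk (J ^ (k + 1)) a) := by
  rw [constV_φA, q, Scheme.Hom.comp_appLE]
  show (T.p k).appLE _ U _ ((CohB1.specQuot J k).app ⊤ _) = _
  refine congrArg ((T.p k).appLE ⊤ U le_top) ?_
  exact (congr($(Scheme.ΓSpecIso_inv_naturality (CommRingCat.ofHom (Ideal.Quotient.mk (J ^ (k + 1))))) a)).symm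

theorem appLE_constV (k : ℕ) {U' : (T.X (k + 1)).Opens} {U : (T.X k).Opens} (e : U ≤ T.i k ⁻¹ᵁ U') (a : A) :
    (T.i k).appLE U' U e (AmpleEmb.constV (T.φA (k + 1)) U' a) = AmpleEmb.constV (T.φA k) U a := by
  rw [constV_φA, constV_φA, ← ConcreteCategory.comp_apply, Scheme.Hom.appLE_comp_appLE]
  simp only [i_q]

theorem ker_appLE (k : ℕ) {U' : (T.X (k + 1)).Opens} {U : (T.X k).Opens} (hU : IsAffineOpen U')
    (h : T.i k ⁻¹ᵁ U' = U) :
    RingHom.ker ((T.i k).appLE U' U h.ge).hom = (J ^ (k + 1)).map (AmpleEmb.constV (T.φA (k + 1)) U') := by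
  subst h
  rw [← Scheme.Hom.app_eq_appLE, AdicPicLib.ker_of_isPullback (T.p (k + 1)) _
    (Ideal.Quotient.factor_surjective (Ideal.pow_le_pow_right (Nat.le_succ (k + 1)))) (T.cart k) hU,
    Ideal.Quotient.factor_ker, Ideal.map_map]
  exact congrArg (fun c => Ideal.map c (J ^ (k + 1))) (RingHom.ext fun a => (T.constV_eq_baseHom (k + 1) U' a).symm)

theorem appLE_surjective (k : ℕ) {U' : (T.X (k + 1)).Opens} {U : (T.X k).Opens} (hU : IsAffineOpen U')
    (h : T.i k ⁻¹ᵁ U' = U) : Function.Surjective ((T.i k).appLE U' U h.ge) := by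
  subst h
  rw [← Scheme.Hom.app_eq_appLE]
  exact (T.i k).app_surjective U' hU

theorem isProper_q [IsNoetherianRing A] [IsProper (T.p 0)] (k : ℕ) : IsProper (T.q k) := by
  haveI := T.isProper_p k
  haveI : IsClosedImmersion (CohB1.specQuot J k) := IsClosedImmersion.spec_of_surjective _ Ideal.Quotient.mk_surjective
  exact inferInstanceAs (IsProper (T.p k ≫ CohB1.specQuot J k))

end Tow

variable {T : Tow A J} [IsNoetherianRing A] [IsProper (T.p 0)]
  (E : CohSys T) (hinv : ∀ k, PicF.IsInvertible (E.F k)) {N : ℕ} (S : Fin (N + 1) → SecSys E)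

/-- The loci of the sections. -/
def locus (k : ℕ) (a : Fin (N + 1)) : (T.X k).Opens := CohB1.genLocus (E.F k) (secHom (E.F k) ((S a).σ k))

include hinv in
theorem preimage_locus (k : ℕ) (a : Fin (N + 1)) : T.i k ⁻¹ᵁ locus E S (k + 1) a = locus E S k a :=
  Opens.ext (Set.ext fun x => E.mem_genLocus_iff' hinv (S a) k x)

include hinv in
theorem gen_locus (k : ℕ) (a : Fin (N + 1)) : Gen (locus E S k a) (resT ((S a).σ k) (locus E S k a)) := by
  have h := AmpleEmb.gen_genLocus (hinv k) (secHom (E.F k) ((S a).σ k))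
  rwa [sec_secHom] at h

include hinv in
theorem exists_ratio (k : ℕ) (a b : Fin (N + 1)) :
    ∃ t : Γ(T.X k, locus E S k a), t • resT ((S a).σ k) (locus E S k a) = resT ((S b).σ k) (locus E S k a) := by
  obtain ⟨t, ht⟩ := (gen_locus E hinv S k a _ le_rfl).2 (resT ((S b).σ k) (locus E S k a))
  exact ⟨t, by simpa only [resT, ParaFLib.res_res] using ht⟩

/-- The ratios. -/
def ratio (k : ℕ) (a b : Fin (N + 1)) : Γ(T.X k, locus E S k a) := (exists_ratio E hinv S k a b).choose

theorem ratio_spec (k : ℕ) (a b : Fin (N + 1)) :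
    ratio E hinv S k a b • resT ((S a).σ k) (locus E S k a) = resT ((S b).σ k) (locus E S k a) :=
  (exists_ratio E hinv S k a b).choose_spec

theorem ratio_unique (k : ℕ) (a : Fin (N + 1)) {r r' : Γ(T.X k, locus E S k a)}
    (hinv' : ∀ k, PicF.IsInvertible (E.F k))
    (h : r • resT ((S a).σ k) (locus E S k a) = r' • resT ((S a).σ k) (locus E S k a)) : r = r' := by
  refine (gen_locus E hinv' S k a _ le_rfl).1 ?_
  simpa only [resT, ParaFLib.res_res] using h

theorem appLE_ratio (k : ℕ) (a b : Fin (N + 1)) :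
    (T.i k).appLE (locus E S (k + 1) a) (locus E S k a) (preimage_locus E hinv S k a).ge
      (ratio E hinv S (k + 1) a b) = ratio E hinv S k a b := by
  refine ratio_unique E S k a hinv (Eq.trans ?_ (ratio_spec E hinv S k a b).symm)
  set U' := locus E S (k + 1) a
  set U := locus E S k a
  have hres : ∀ c, (E.π k).app U' (resT ((S c).σ (k + 1)) U') =
      (E.F k).presheaf.map (homOfLE (le_top : T.i k ⁻¹ᵁ U' ≤ ⊤)).op ((S c).σ k) := fun c => by
    refine (ConcreteCategory.congr_hom ((E.π k).mapPresheaf.naturality (homOfLE (le_top : U' ≤ ⊤)).op)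
      ((S c).σ (k + 1))).trans ?_
    exact congrArg _ ((S c).compat k)
  have h := congrArg (fun z => (E.F k).presheaf.map (homOfLE (preimage_locus E hinv S k a).ge).op ((E.π k).app U' z))
    (ratio_spec E hinv S (k + 1) a b)
  have hsmul : (E.π k).app U' (ratio E hinv S (k + 1) a b • resT ((S a).σ (k + 1)) U') =
      ((T.i k).app U' (ratio E hinv S (k + 1) a b) : Γ(T.X k, T.i k ⁻¹ᵁ U')) •
        (show Γ(E.F k, T.i k ⁻¹ᵁ U') from (E.π k).app U' (resT ((S a).σ (k + 1)) U')) :=
    Scheme.Modules.Hom.app_smul (E.π k) _ _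
  dsimp only at h
  rw [hsmul, hres, hres] at h
  have hlhs : (E.F k).presheaf.map (homOfLE (preimage_locus E hinv S k a).ge).op
      (((T.i k).app U' (ratio E hinv S (k + 1) a b) : Γ(T.X k, T.i k ⁻¹ᵁ U')) •
        (E.F k).presheaf.map (homOfLE (le_top : T.i k ⁻¹ᵁ U' ≤ ⊤)).op ((S a).σ k)) =
      (T.i k).appLE U' U (preimage_locus E hinv S k a).ge (ratio E hinv S (k + 1) a b) • resT ((S a).σ k) U := by
    rw [(E.F k).map_smul, ParaFLib.res_res]
    rfl
  refine hlhs.symm.trans (h.trans ?_)
  rw [ParaFLib.res_res]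

variable (haff : ∀ a, IsAffineOpen (locus E S 0 a)) (hcov : ∀ x : T.X 0, ∃ a, x ∈ locus E S 0 a)

include hinv haff in
theorem isAffineOpen_locus : ∀ k a, IsAffineOpen (locus E S k a)
  | 0, a => haff a
  | k + 1, a => by
    haveI : IsAffine (T.i k ⁻¹ᵁ locus E S (k + 1) a).toScheme := by
      rw [preimage_locus E hinv S k a]; exact isAffineOpen_locus k a
    haveI : IsClosedImmersion (T.i k ∣_ locus E S (k + 1) a) :=
      IsZariskiLocalAtTarget.restrict (P := @IsClosedImmersion) inferInstance _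
    haveI : Surjective (T.i k ∣_ locus E S (k + 1) a) :=
      IsZariskiLocalAtTarget.restrict (P := @Surjective) inferInstance _
    exact Thicken.isAffine (T.i k ∣_ locus E S (k + 1) a) (T.i k ∣_ locus E S (k + 1) a).surjective

include hinv hcov in
theorem exists_mem_locus : ∀ (k : ℕ) (x : T.X k), ∃ a, x ∈ locus E S k a
  | 0, x => hcov x
  | k + 1, y => by
    obtain ⟨x, rfl⟩ := (T.i k).surjective y
    obtain ⟨a, ha⟩ := exists_mem_locus k x
    exact ⟨a, (preimage_locus E hinv S k a).ge ha⟩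

/-- The ratio families. -/
def fam (k : ℕ) : AmpleEmb.RatioFamily (T.X k) N where
  U := locus E S k
  affine := isAffineOpen_locus E hinv S haff k
  cover := eq_top_iff.2 fun x _ => Opens.mem_iSup.2 (exists_mem_locus E hinv S hcov k x)
  t := ratio E hinv S k
  t_self a := ratio_unique E S k a hinv ((ratio_spec E hinv S k a a).trans (one_smul _ _).symm)
  t_open a b := by
    have h := genLocus_inf_eq_basicOpen (secHom (E.F k) ((S b).σ k)) (gen_locus E hinv S k a)
      (a := ratio E hinv S k a b) (by rw [sec_secHom]; exact ratio_spec E hinv S k a b)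
    exact h.symm.trans (inf_comm _ _)
  t_mul a b c := by
    refine ((gen_locus E hinv S k b).res (inf_le_right : locus E S k a ⊓ locus E S k b ≤ _) _ le_rfl).1 ?_
    have e1 := congrArg ((E.F k).presheaf.map (homOfLE (inf_le_right : locus E S k a ⊓ locus E S k b ≤ _)).op)
      (ratio_spec E hinv S k b c)
    have e2 := congrArg ((E.F k).presheaf.map (homOfLE (inf_le_right : locus E S k a ⊓ locus E S k b ≤ _)).op)
      (ratio_spec E hinv S k b a)
    have e3 := congrArg ((E.F k).presheaf.map (homOfLE (inf_le_left : locus E S k a ⊓ locus E S k b ≤ _)).op)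
      (ratio_spec E hinv S k a c)
    rw [(E.F k).map_smul, resT, resT, ParaFLib.res_res, ParaFLib.res_res] at e1 e2 e3
    simp only [resT, ParaFLib.res_res]
    rw [mul_comm, mul_smul, e1, e2, e3]

theorem genAt (h0 : ∀ a, AmpleEmb.GenAt (T.φA 0) (fam E hinv S haff hcov 0) a) :
    ∀ k a, AmpleEmb.GenAt (T.φA k) (fam E hinv S haff hcov k) a
  | 0, a => h0 a
  | k + 1, a => by
    intro b
    set U' := locus E S (k + 1) a
    set U := locus E S k a
    have hU := preimage_locus E hinv S k a
    have haf := isAffineOpen_locus E hinv S haff (k + 1) a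
    let f := ((T.i k).appLE U' U hU.ge).hom
    let e' := MvPolynomial.eval₂Hom (AmpleEmb.constV (T.φA (k + 1)) U') (ratio E hinv S (k + 1) a)
    let e := MvPolynomial.eval₂Hom (AmpleEmb.constV (T.φA k) U) (ratio E hinv S k a)
    have hcomp : f.comp e' = e := MvPolynomial.ringHom_ext
      (fun r => by
        simp only [e', e, RingHom.comp_apply, MvPolynomial.eval₂Hom_C]
        exact T.appLE_constV k hU.ge r)
      (fun c => by
        simp only [e', e, RingHom.comp_apply, MvPolynomial.eval₂Hom_X']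
        exact appLE_ratio E hinv S k a c)
    have hlift : ∀ z, ∃ s, z - e' s ∈ RingHom.ker f := fun z => by
      obtain ⟨s, hs⟩ := (genAt h0 k a) (f z)
      refine ⟨s, ?_⟩
      rw [RingHom.mem_ker, map_sub, ← RingHom.comp_apply, hcomp, sub_eq_zero]
      exact hs.symm
    have hker := T.ker_appLE k haf hU
    have hsq : ∀ w ∈ RingHom.ker f, ∀ a' ∈ J ^ (k + 1), w * AmpleEmb.constV (T.φA (k + 1)) U' a' = 0 := by
      intro w hw a' ha'
      rw [hker] at hw
      have h : w * AmpleEmb.constV (T.φA (k + 1)) U' a' ∈ (J ^ (k + 1) * J ^ (k + 1)).map (AmpleEmb.constV (T.φA (k + 1)) U') := by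
        rw [Ideal.map_mul]
        exact Ideal.mul_mem_mul hw (Ideal.mem_map_of_mem _ ha')
      have h0' : (J ^ (k + 1) * J ^ (k + 1)).map (AmpleEmb.constV (T.φA (k + 1)) U') = ⊥ :=
        (Ideal.map_eq_bot_iff_le_ker _).2 fun v hv => by
          have hv' : v ∈ J ^ (k + 1 + 1) := Ideal.pow_le_pow_right (by omega : k + 1 + 1 ≤ (k + 1) + (k + 1)) (by rwa [pow_add])
          rw [RingHom.mem_ker, T.constV_eq_baseHom, Ideal.Quotient.eq_zero_iff_mem.2 hv', map_zero]
      rwa [h0', Ideal.mem_bot] at h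
    have hin : ∀ z ∈ RingHom.ker f, ∀ r, r * z ∈ e'.range := by
      intro z hz
      rw [hker] at hz
      induction hz using Submodule.span_induction with
      | mem v hv =>
        obtain ⟨a', ha', rfl⟩ := hv
        intro r
        obtain ⟨s, hs⟩ := hlift r
        refine ⟨s * MvPolynomial.C a', ?_⟩
        rw [map_mul]
        simp only [e', MvPolynomial.eval₂Hom_C]
        have := hsq _ hs a' ha'
        rw [sub_mul, sub_eq_zero] at this
        exact this.symm
      | zero => intro r; rw [mul_zero]; exact zero_mem _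
      | add v w _ _ hv hw => intro r; rw [mul_add]; exact add_mem (hv r) (hw r)
      | smul c v _ hv => intro r; rw [smul_eq_mul, ← mul_assoc]; exact hv _
    obtain ⟨s, hs⟩ := hlift b
    obtain ⟨s', hs'⟩ := hin _ hs 1
    refine ⟨s + s', ?_⟩
    show e' (s + s') = b
    rw [map_add, hs', one_mul, add_sub_cancel]

/-- The morphisms to projective space. -/
def emb (k : ℕ) : T.X k ⟶ CohB1.ProjSpace N A := AmpleEmb.toProj (T.φA k) (fam E hinv S haff hcov k)

theorem i_emb (k : ℕ) : T.i k ≫ emb E hinv S haff hcov (k + 1) = emb E hinv S haff hcov k := by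
  let F := fam E hinv S haff hcov k
  let F' := fam E hinv S haff hcov (k + 1)
  refine ((T.X k).openCoverOfIsOpenCover F.U F.cover).hom_ext _ _ fun a => ?_
  show (F.U a).ι ≫ _ ≫ _ = (F.U a).ι ≫ _
  have e : F.U a ≤ T.i k ⁻¹ᵁ F'.U a := (preimage_locus E hinv S k a).ge
  rw [emb, emb, AmpleEmb.ι_toProj, ← Category.assoc, ← Scheme.Hom.resLE_comp_ι (T.i k) e, Category.assoc,
    AmpleEmb.ι_toProj, AmpleEmb.piece, AmpleEmb.piece, ← Category.assoc,
    ← Scheme.Opens.toSpecΓ_SpecMap_appLE (T.i k) (F'.U a) (F.U a) e, Category.assoc]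
  congr 1
  letI : Algebra A Γ(T.X (k + 1), F'.U a) := (AmpleEmb.constV (T.φA (k + 1)) (F'.U a)).toAlgebra
  letI : Algebra A Γ(T.X k, F.U a) := (AmpleEmb.constV (T.φA k) (F.U a)).toAlgebra
  refine (ProjMap.specMap_point (R := A) ((T.i k).appLE (F'.U a) (F.U a) e).hom (T.appLE_constV k e) (F'.t a) a _).trans ?_
  have hfun : (fun b => (T.i k).appLE (F'.U a) (F.U a) e (F'.t a b)) = F.t a :=
    funext fun b => appLE_ratio E hinv S k a b
  exact point_congr hfun _ _
where
  point_congr {B : Type u} [CommRing B] [Algebra A B] {v w : Fin (N + 1) → B} {c : Fin (N + 1)} (h : v = w)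
      (hv : IsUnit (v c)) (hw : IsUnit (w c)) : ProjMap.point (R := A) v c hv = ProjMap.point (R := A) w c hw := by
    subst h; rfl

theorem emb_toSpec (k : ℕ) : emb E hinv S haff hcov k ≫ CohB1.ProjSpace.toSpec N A = T.q k :=
  AmpleEmb.toProj_toSpec _ _ _ rfl

theorem isClosedImmersion_emb (h0 : ∀ a, AmpleEmb.GenAt (T.φA 0) (fam E hinv S haff hcov 0) a) (k : ℕ) :
    IsClosedImmersion (emb E hinv S haff hcov k) := by
  haveI := T.isProper_q k
  exact AmpleEmb.isClosedImmersion_toProj _ _ (T.q k) rfl Set.univ (fun a _ => genAt E hinv S haff hcov h0 k a)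
    fun x => (exists_mem_locus E hinv S hcov k x).imp fun a ha => ⟨trivial, ha⟩

end Groth.Agent.FormalAmple
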