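import Groth.Agent.AdicPicLib.Surjective

/-!
# Algebraization of a system of invertible modules
-/

set_option autoImplicit false
set_option linter.style.haveILetI false
set_option backward.isDefEq.respectTransparency false
set_option maxHeartbeats 1000000

universe u

open CategoryTheory CategoryTheory.Limits AlgebraicGeometry TopologicalSpace Opposite
open Groth.Agent.CohBase Groth.Agent.ProjCoh Groth.Agent.QCohLib Groth.Agent.PullbackMod Groth.Agent.ParaFLib

noncomputable section

namespace Groth.Agent.FormalAmple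

open AdicPicLib (ι tt φP φP_app preimage_ι surjective_tt)

theorem mem_range_specQuot {A : Type u} [CommRing A] {I : Ideal A} (m : PrimeSpectrum A) (hm : I ≤ m.asIdeal) :
    m ∈ Set.range (CohB1.specQuot I 0) := by
  refine (Set.ext_iff.1 (range_comap_of_surjective _ (Ideal.Quotient.mk (I ^ (0 + 1))) Ideal.Quotient.mk_surjective) _).2 ?_
  intro a ha
  have ha' : a ∈ I ^ (0 + 1) := Ideal.Quotient.eq_zero_iff_mem.1 ha
  rw [zero_add, pow_one] at ha'
  exact hm ha'

/-- An open containing the special fibre of a closed map to the spectrum of a complete ring is everything. -/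
theorem eq_top_of_special {A : Type u} [CommRing A] {I : Ideal A} [IsAdicComplete I A] {X : Scheme.{u}}
    (g : X ⟶ Spec (CommRingCat.of A)) [UniversallyClosed g] {U : X.Opens}
    (h : g ⁻¹' Set.range (CohB1.specQuot I 0) ⊆ (U : Set X)) : U = ⊤ := by
  refine eq_top_iff.2 fun x _ => by_contra fun hx => ?_
  obtain ⟨m, hm, hle⟩ := Ideal.exists_le_maximal (g x).asIdeal (g x).2.ne_top
  have hcl : IsClosed (g '' (U : Set X)ᶜ) := g.isClosedMap _ U.2.isClosed_compl
  have hspec : g x ⤳ (⟨m, hm.isPrime⟩ : PrimeSpectrum A) := (PrimeSpectrum.le_iff_specializes _ _).1 hle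
  obtain ⟨y, hy, hym⟩ := hspec.mem_closed hcl ⟨x, hx, rfl⟩
  refine hy (h ?_)
  show g y ∈ Set.range (CohB1.specQuot I 0)
  rw [hym]
  refine mem_range_specQuot _ ((IsAdicComplete.le_jacobson_bot I).trans ?_)
  exact sInf_le ⟨bot_le, hm⟩

variable {A : Type u} [CommRing A] [IsNoetherianRing A] {X : Scheme.{u}} [X.Over (Spec (CommRingCat.of A))]
  {I : Ideal A} {L : ∀ n, (CohB1.thick (X ↘ Spec (CommRingCat.of A)) I n).Modules}

theorem gen_all (θ : ∀ n, (Scheme.Modules.pullback (tt I n)).obj (L (n + 1)) ≅ L n) (hL : ∀ n, PicF.IsInvertible (L n))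
    {M : X.Modules} (τ : ∀ n, M ⟶ (Scheme.Modules.pushforward (ι I n)).obj (L n))
    (hτ : ∀ n, τ (n + 1) ≫ φP I θ n = τ n) {U : X.Opens} (g : Γ(M, U))
    (h0 : Gen (L := L 0) (ι I 0 ⁻¹ᵁ U) ((τ 0).app U g)) : ∀ n, Gen (L := L n) (ι I n ⁻¹ᵁ U) ((τ n).app U g) := by
  intro n
  induction n with
  | zero => exact h0
  | succ n ih =>
    have e : (τ n).app U g = (θ n).hom.app _ (pullMap (tt I n) (L (n + 1)) (preimage_ι I n U).le ((τ (n + 1)).app U g)) := by
      rw [← φP_app I θ n U, ← hτ n]
      rfl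
    rw [e] at ih
    have h1 := PicRootLib.gen_iso (θ n).symm ih
    rw [show (θ n).symm.hom.app _ ((θ n).hom.app _ (pullMap (tt I n) (L (n + 1)) (preimage_ι I n U).le
        ((τ (n + 1)).app U g))) = pullMap (tt I n) (L (n + 1)) (preimage_ι I n U).le ((τ (n + 1)).app U g) from
      congr($((θ n).hom_inv_id).app _ _)] at h1
    refine CubeLib.gen_of_pullMap (tt I n) (hL (n + 1)) _ (fun y hy => ?_) h1
    haveI := surjective_tt (X := X) I n
    obtain ⟨w, rfl⟩ := (tt I n).surjective y
    exact ⟨w, (preimage_ι I n U).ge hy, rfl⟩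

variable [IsAdicComplete I A] [IsProper (X ↘ Spec (CommRingCat.of A))]

/-- A system of invertible modules on the thickenings of a proper scheme over a complete ring algebraizes
to an invertible module. -/
theorem exists_invertible (θ : ∀ n, (Scheme.Modules.pullback (tt I n)).obj (L (n + 1)) ≅ L n)
    (hL : ∀ n, PicF.IsInvertible (L n)) :
    ∃ M : X.Modules, PicF.IsInvertible M ∧
      ∀ n, Nonempty ((Scheme.Modules.pullback (ι I n)).obj M ≅ L n) := by
  haveI : IsLocallyNoetherian X := LocallyOfFiniteType.isLocallyNoetherian (X ↘ Spec (CommRingCat.of A))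
  obtain ⟨M, τ, hM, hτ, hτs⟩ := AdicPicLib.exists_algebraization I θ hL
  have hgen := AdicPicLib.exists_generator I θ hM τ hL hτ hτs
  haveI := hM.1
  have hFP := QCohLib.isFP_of_isCoh M hM
  have hfree : ∀ z, FreeAt 1 M (ι I 0 z) := fun z => by
    obtain ⟨U, g, hz, -, hb⟩ := hgen z
    exact ⟨(LinearEquiv.ofBijective (LinearMap.toSpanSingleton _ _ (M.presheaf.germ U _ hz g)) hb).symm.trans
      (LinearEquiv.funUnique (Fin 1) _ _).symm⟩
  have hrange : Set.range (ι (X := X) I 0) = (X ↘ Spec (CommRingCat.of A)) ⁻¹' Set.range (CohB1.specQuot I 0) :=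
    Scheme.Pullback.range_fst _ _
  have hall : ∀ x, FreeAt 1 M x := by
    have := eq_top_of_special (I := I) (X ↘ Spec (CommRingCat.of A)) (U := ⟨_, isOpen_freeAt M hFP 1⟩)
      (by rw [← hrange]; rintro - ⟨z, rfl⟩; exact hfree z)
    exact fun x => this.ge (trivial : x ∈ (⊤ : X.Opens))
  have hMinv : PicF.IsInvertible M :=
    GrassShLib.isInvertible_iff_rank_one.2 ((isFinLocFreeOfRank_iff_freeAt M hFP 1).2 hall)
  refine ⟨M, hMinv, fun n => ?_⟩
  let j := ι (X := X) I n
  let adj := Scheme.Modules.pullbackPushforwardAdjunction j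
  let σ := (adj.homEquiv M (L n)).symm (τ n)
  have hσ : adj.unit.app M ≫ (Scheme.Modules.pushforward j).map σ = τ n := by
    exact (adj.homEquiv_unit (X := M) (Y := L n) (f := σ)).symm.trans (Equiv.apply_symm_apply _ _)
  haveI : IsIso σ := (isIso_iff_stalk σ).2 fun z => by
    have hz0 : j z ∈ Set.range (ι (X := X) I 0) := by
      rw [hrange]
      refine show (X ↘ Spec (CommRingCat.of A)) (j z) ∈ Set.range (CohB1.specQuot I 0) from ?_
      have e : (X ↘ Spec (CommRingCat.of A)) (j z) = CohB1.specQuot I n (pullback.snd _ (CohB1.specQuot I n) z) := by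
        show (j ≫ (X ↘ Spec (CommRingCat.of A))) z = _
        rw [pullback.condition]
        rfl
      rw [e]
      refine mem_range_specQuot _ fun a ha => ?_
      refine (PrimeSpectrum.isPrime _).mem_of_pow_mem (n + 1) ?_
      show Ideal.Quotient.mk (I ^ (n + 1)) (a ^ (n + 1)) ∈ (pullback.snd _ (CohB1.specQuot I n) z).asIdeal
      rw [Ideal.Quotient.eq_zero_iff_mem.2 (Ideal.pow_mem_pow ha (n + 1))]
      exact Ideal.zero_mem _
    obtain ⟨z₀, hz₀⟩ := hz0
    obtain ⟨U, g, hz, h0, hb⟩ := hgen z₀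
    have hzU : j z ∈ U := hz₀ ▸ hz
    have hb' : Function.Bijective fun r : X.presheaf.stalk (j z) => r • M.presheaf.germ U (j z) hzU g :=
      bij_congr hz₀ hz hzU hb
    have h1 := AmpleLib.bijective_pullStalk j z hb'
    have h2 : stalkLin σ z (pullStalk j M z (M.presheaf.germ U (j z) hzU g)) =
        (L n).presheaf.germ (j ⁻¹ᵁ U) z hzU ((τ n).app U g) := by
      rw [pullStalk_germ, stalkLin_germ]
      exact congrArg _ congr($(hσ).app U g)
    have h3 := (gen_all θ hL τ hτ g h0 n).bijective_germ z hzU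
    have h4 : (fun r => r • (L n).presheaf.germ (j ⁻¹ᵁ U) z hzU ((τ n).app U g)) =
        stalkLin σ z ∘ fun r => r • pullStalk j M z (M.presheaf.germ U (j z) hzU g) := funext fun r => by
      rw [Function.comp_apply, map_smul, h2]
    have h5 := h4 ▸ h3
    exact (Function.Bijective.of_comp_iff _ h1).1 h5
  exact ⟨asIso σ⟩
where
  bij_congr {X : Scheme.{u}} {M : X.Modules} {U : X.Opens} {g : Γ(M, U)} {x y : X} (h : x = y) (hx : x ∈ U)
      (hy : y ∈ U) (hb : Function.Bijective fun r : X.presheaf.stalk x => r • M.presheaf.germ U x hx g) :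
      Function.Bijective fun r : X.presheaf.stalk y => r • M.presheaf.germ U y hy g := by
    subst h; exact hb

end Groth.Agent.FormalAmple
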