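import Groth.Agent.FormalAmpleLib.Base
import Groth.Agent.FormalAmpleLib.Ample
import Groth.Agent.FormalSysLib.ClosedSub

/-!
# Algebraization of formal schemes with an ample system
-/

set_option autoImplicit false
set_option linter.style.haveILetI false
set_option backward.isDefEq.respectTransparency false
set_option maxHeartbeats 1000000

universe u

open CategoryTheory CategoryTheory.Limits AlgebraicGeometry TopologicalSpace Opposite

noncomputable section

namespace Groth.Agent.FormalAmple

theorem isInvertible_pullback' {X Y : Scheme.{u}} (f : X ⟶ Y) {L : Y.Modules} (hL : PicF.IsInvertible L) :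
    PicF.IsInvertible ((Scheme.Modules.pullback f).obj L) := AmpleLib.isInvertible_pullback f hL

theorem algebraize (A : Type u) [CommRing A] [IsNoetherianRing A] (I : Ideal A) [IsAdicComplete I A]
    (Xs : ℕ → Scheme.{u}) (p : (n : ℕ) → (Xs n ⟶ Spec (CommRingCat.of (A ⧸ I ^ (n + 1)))))
    (i : (n : ℕ) → (Xs n ⟶ Xs (n + 1)))
    (hcart : ∀ n, IsPullback (i n) (p n) (p (n + 1)) (CohB1.specQuotTrans I n)) (hp : IsProper (p 0))
    (L : (n : ℕ) → (Xs n).Modules) (hL : ∀ n, PicF.IsInvertible (L n))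
    (φ : ∀ n, Nonempty ((Scheme.Modules.pullback (i n)).obj (L (n + 1)) ≅ L n)) (ha : CohB1.IsAmple (L 0)) :
    ∃ (Y : Scheme.{u}) (g : Y ⟶ Spec (CommRingCat.of A)) (M : Y.Modules) (e : (n : ℕ) → (Xs n ⟶ Y)),
      IsProper g ∧ PicF.IsInvertible M ∧ CohB1.IsAmple M ∧
      (∀ n, IsPullback (e n) (p n) g (CohB1.specQuot I n)) ∧ (∀ n, e n = i n ≫ e (n + 1)) ∧
      ∀ n, Nonempty ((Scheme.Modules.pullback (e n)).obj M ≅ L n) := by
  let T : Tow A I := ⟨Xs, p, i, hcart⟩
  haveI : IsProper (T.p 0) := hp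
  obtain ⟨N, e, he, hes, hec⟩ := exists_compatible_emb' (T := T) L hL φ ha
  let f := CohB1.ProjSpace.toSpec N A
  let z : ∀ n, Xs n ⟶ CohB1.thick f I n := fun n => pullback.lift (e n) (p n) (hes n)
  have hzι : ∀ n, z n ≫ CohB1.thickι f I n = e n := fun n => pullback.lift_fst _ _ _
  have hzb : ∀ n, z n ≫ CohB1.thickToBase f I n = p n := fun n => pullback.lift_snd _ _ _
  have hz : ∀ n, IsClosedImmersion (z n) := fun n => by
    haveI : IsClosedImmersion (CohB1.specQuot I n) := IsClosedImmersion.spec_of_surjective _ Ideal.Quotient.mk_surjective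
    haveI : IsClosedImmersion (CohB1.thickι f I n) := MorphismProperty.pullback_fst _ _ inferInstance
    haveI : IsClosedImmersion (z n ≫ CohB1.thickι f I n) := (hzι n).symm ▸ hec n
    exact IsClosedImmersion.of_comp (z n) (CohB1.thickι f I n)
  have ht : ∀ n, IsPullback (i n) (z n) (z (n + 1)) (CohB1.thickTrans f I n) := fun n => by
    refine IsPullback.of_bot ?_ ?_ (PropPi1.isPullback_thickTrans I f n)
    · rw [hzb, hzb]; exact hcart n
    · refine pullback.hom_ext ?_ ?_
      · rw [Category.assoc, Category.assoc, show CohB1.thickTrans f I n ≫ pullback.fst f (CohB1.specQuot I (n + 1)) =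
          CohB1.thickι f I n from (pullback.lift_fst _ _ _).trans (Category.comp_id _)]
        exact ((congrArg (i n ≫ ·) (hzι (n + 1))).trans (he n)).trans (hzι n).symm
      · rw [Category.assoc, Category.assoc, show CohB1.thickTrans f I n ≫ pullback.snd f (CohB1.specQuot I (n + 1)) =
          CohB1.thickToBase f I n ≫ CohB1.specQuotTrans I n from pullback.lift_snd _ _ _]
        exact ((congrArg (i n ≫ ·) (hzb (n + 1))).trans (hcart n).w).trans
          ((congrArg (· ≫ _) (hzb n).symm).trans (Category.assoc _ _ _))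
  obtain ⟨W, j, w, hj, hjp, hw, hwp⟩ := FormalSys.exists_algebraize_closed f Xs z i hz ht (by rw [hzb]; exact hp)
  have hsq : ∀ n, IsPullback (w n) (p n) (j ≫ f) (CohB1.specQuot I n) := fun n => by
    have h := (hwp n).paste_vert (IsPullback.of_hasPullback f (CohB1.specQuot I n))
    rwa [show z n ≫ pullback.snd f (CohB1.specQuot I n) = p n from hzb n] at h
  letI : W.Over (Spec (CommRingCat.of A)) := ⟨j ≫ f⟩
  haveI : IsProper (W ↘ Spec (CommRingCat.of A)) := hjp
  let c : ∀ n, Xs n ≅ CohB1.thick (W ↘ Spec (CommRingCat.of A)) I n := fun n => (hsq n).isoPullback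
  have hc : ∀ n, AdicPicLib.tt (X := W) I n ≫ (c (n + 1)).inv = (c n).inv ≫ i n := fun n => by
    refine (hsq (n + 1)).hom_ext ?_ ?_
    · rw [Category.assoc, Category.assoc, (hsq (n + 1)).isoPullback_inv_fst, ← hw n, (hsq n).isoPullback_inv_fst]
      exact AdicPicLib.tt_ι I n
    · rw [Category.assoc, Category.assoc, (hsq (n + 1)).isoPullback_inv_snd, (hcart n).w, ← Category.assoc,
        (hsq n).isoPullback_inv_snd]
      exact pullback.lift_snd _ _ _
  let L' : ∀ n, (CohB1.thick (W ↘ Spec (CommRingCat.of A)) I n).Modules :=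
    fun n => (Scheme.Modules.pullback (c n).inv).obj (L n)
  let θ : ∀ n, (Scheme.Modules.pullback (AdicPicLib.tt I n)).obj (L' (n + 1)) ≅ L' n := fun n =>
    (Scheme.Modules.pullbackComp (AdicPicLib.tt I n) (c (n + 1)).inv).app (L (n + 1)) ≪≫
      (Scheme.Modules.pullbackCongr (hc n)).app (L (n + 1)) ≪≫
      ((Scheme.Modules.pullbackComp (c n).inv (i n)).app (L (n + 1))).symm ≪≫
      (Scheme.Modules.pullback (c n).inv).mapIso (φ n).some
  obtain ⟨M, hM, hMn⟩ := exists_invertible θ fun n => isInvertible_pullback' _ (hL n)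
  have hwM : ∀ n, Nonempty ((Scheme.Modules.pullback (w n)).obj M ≅ L n) := fun n => by
    have e1 : (c n).hom ≫ AdicPicLib.ι (X := W) I n = w n := (hsq n).isoPullback_hom_fst
    exact ⟨(Scheme.Modules.pullbackCongr e1).symm.app M ≪≫
      ((Scheme.Modules.pullbackComp (c n).hom (AdicPicLib.ι I n)).app M).symm ≪≫
      (Scheme.Modules.pullback (c n).hom).mapIso (hMn n).some ≪≫
      (Scheme.Modules.pullbackComp (c n).hom (c n).inv).app (L n) ≪≫
      (Scheme.Modules.pullbackCongr (c n).hom_inv_id).app (L n) ≪≫ (Scheme.Modules.pullbackId (Xs n)).app (L n)⟩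
  exact ⟨W, j ≫ f, M, w, hjp, hM, isAmple_of_special (j ≫ f) hM (hsq 0) (AmpleLib.isAmple_of_iso (hwM 0).some.symm ha),
    hsq, hw, hwM⟩

end Groth.Agent.FormalAmple
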