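import Groth.Agent.FormalAmpleLib.Vanish
import Groth.Agent.AmpleEmb.Sections

/-!
# Lifting sections of a power of an ample system
-/

set_option autoImplicit false
set_option linter.style.haveILetI false
set_option backward.isDefEq.respectTransparency false
set_option maxHeartbeats 1000000

universe u

open CategoryTheory CategoryTheory.Limits AlgebraicGeometry TopologicalSpace Opposite
open Groth.Agent.PullbackMod Groth.Agent.DCohLib Groth.Agent.ParaFLib Groth.Agent.AmpleLib

noncomputable section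

namespace Groth.Agent.FormalAmple

variable {X Y : Scheme.{u}} (i : X ⟶ Y)

/-- Twisting a restriction map gives again a restriction map. -/
theorem exists_unit_factor [IsClosedImmersion i] {F : Y.Modules} {G : X.Modules}
    (ψ : (Scheme.Modules.pullback i).obj F ≅ G) (P : Y.Modules) :
    ∃ ε : (Scheme.Modules.pullback i).obj (tmod F P) ≅ tmod G ((Scheme.Modules.pullback i).obj P),
      ((DCoh.tensorBi (X := Y)).map ((Scheme.Modules.pullbackPushforwardAdjunction i).unit.app F ≫
          (Scheme.Modules.pushforward i).map ψ.hom)).app P ≫ (projIso i G P).hom =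
        (Scheme.Modules.pullbackPushforwardAdjunction i).unit.app (tmod F P) ≫
          (Scheme.Modules.pushforward i).map ε.hom := by
  let adj := Scheme.Modules.pullbackPushforwardAdjunction i
  let π := adj.unit.app F ≫ (Scheme.Modules.pushforward i).map ψ.hom
  have hπ : (Scheme.Modules.pullback i).map π ≫ adj.counit.app G = ψ.hom := by
    have h := adj.homEquiv_counit (X := F) (Y := G) (g := π)
    rw [← h, show π = adj.homEquiv F G ψ.hom from (adj.homEquiv_unit (X := F) (Y := G) (f := ψ.hom)).symm,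
      Equiv.symm_apply_apply]
  refine ⟨((pullTensorBiIsoSch i).app F).app P ≪≫ ((DCoh.tensorBi (X := X)).mapIso ψ).app _, ?_⟩
  rw [projIso_hom]
  have h1 := adj.unit.naturality (((DCoh.tensorBi (X := Y)).map π).app P)
  refine ((Category.assoc _ _ _).symm.trans (congrArg (· ≫ _) h1)).trans ((Category.assoc _ _ _).trans ?_)
  refine congrArg (adj.unit.app _ ≫ ·) (((Scheme.Modules.pushforward i).map_comp _ _).symm.trans
    (congrArg (Scheme.Modules.pushforward i).map ?_))
  have h2 := congr_app ((pullTensorBiIsoSch i).hom.naturality π) P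
  refine ((Category.assoc _ _ _).symm.trans (congrArg (· ≫ _) h2)).trans ((Category.assoc _ _ _).trans ?_)
  refine congrArg (((pullTensorBiIsoSch i).hom.app F).app P ≫ ·) ?_
  have h3 := congr_app (((DCoh.tensorBi (X := X)).map_comp _ _).symm.trans (congrArg (DCoh.tensorBi (X := X)).map hπ))
    ((Scheme.Modules.pullback i).obj P)
  exact h3

variable {A : Type u} [CommRing A] {J : Ideal A} {T : Tow A J}

/-- Global sections compatible along the tower. -/
structure SecSys (E : CohSys T) where
  /-- The sections. -/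
  σ : ∀ k, Γ(E.F k, ⊤)
  compat : ∀ k, (E.π k).app ⊤ (σ (k + 1)) = σ k

theorem CohSys.exists_secSys (E : CohSys T) (hsurj : ∀ k, Function.Surjective ((E.π k).app ⊤)) (σ₀ : Γ(E.F 0, ⊤)) :
    ∃ S : SecSys E, S.σ 0 = σ₀ := by
  choose lift hlift using hsurj
  exact ⟨⟨fun k => Nat.rec σ₀ (fun k v => lift k v) k, fun k => hlift k _⟩, rfl⟩

theorem CohSys.r_germ (E : CohSys T) (k : ℕ) (x : T.X k) {U : (T.X (k + 1)).Opens} (hx : T.i k x ∈ U)
    (s : Γ(E.F (k + 1), U)) :
    E.r k x ((E.F (k + 1)).presheaf.germ U (T.i k x) hx s) = (E.F k).presheaf.germ (T.i k ⁻¹ᵁ U) x hx ((E.π k).app U s) := by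
  show pushStalk _ _ x (stalkLin (E.π k) (T.i k x) _) = _
  rw [stalkLin_germ]
  exact pushStalk_germ (T.i k) (E.F k) x hx _

variable [IsNoetherianRing A] [IsProper (T.p 0)]

theorem CohSys.mem_genLocus_iff' (E : CohSys T) (hinv : ∀ k, PicF.IsInvertible (E.F k)) (S : SecSys E) (k : ℕ)
    (x : T.X k) :
    T.i k x ∈ CohB1.genLocus (E.F (k + 1)) (secHom (E.F (k + 1)) (S.σ (k + 1))) ↔
      x ∈ CohB1.genLocus (E.F k) (secHom (E.F k) (S.σ k)) := by
  haveI := InvExt.isQCoh_of_isInvertible (hinv (k + 1))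
  rw [mem_genLocus_iff (hinv (k + 1)), mem_genLocus_iff (hinv k), sec_secHom, sec_secHom]
  obtain ⟨e, he⟩ := exists_stalk_gen (hinv (k + 1)) (T.i k x)
  obtain ⟨a, ha⟩ := he.2 ((E.F (k + 1)).presheaf.germ ⊤ (T.i k x) (Opens.mem_top _) (S.σ (k + 1)))
  change a • e = _ at ha
  have he' : Function.Bijective fun r : (T.X k).presheaf.stalk x => r • E.r k x e := by
    have h := (E.bijective_stalk_ψ k x).comp (AmpleLib.bijective_pullStalk (T.i k) x he)
    convert h using 1
    funext r
    show r • E.r k x e = stalkLin (E.ψ k).hom x (r • pullStalk (T.i k) (E.F (k + 1)) x e)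
    rw [map_smul, r_eq]
  have hσ : (E.F k).presheaf.germ ⊤ x (Opens.mem_top x) (S.σ k) = (T.i k).stalkMap x a • E.r k x e := by
    rw [← r_smul, ha, r_germ, S.compat]
    rfl
  rw [hσ, ← ha, bijective_smul_iff he, bijective_smul_iff he']
  exact ⟨fun h => h.map _, fun h => isUnit_of_map_unit ((T.i k).stalkMap x).hom a h⟩

/-- The sections of a high power lift. -/
theorem exists_surjective (L : ∀ k, (T.X k).Modules) (hL : ∀ k, PicF.IsInvertible (L k))
    (φ : ∀ k, Nonempty ((Scheme.Modules.pullback (T.i k)).obj (L (k + 1)) ≅ L k)) (ha : CohB1.IsAmple (L 0)) :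
    ∃ n₀ : ℕ, ∀ n, n₀ ≤ n → ∃ E : CohSys T, (∀ k, E.F k = CohB1.tensorPow (L k) n) ∧
      ∀ k, Function.Surjective ((E.π k).app ⊤) := by
  let E₀ : CohSys T :=
    { F := fun k => Coh.structureModule (T.X k)
      coh := fun k => haveI := T.isNoetherian k; DevLib.isCoh_structureModule _
      ψ := fun k => pullO (T.i k) }
  obtain ⟨n₀, h₀⟩ := exists_vanish E₀ L hL φ ha
  refine ⟨n₀, fun n hn => ?_⟩
  let E : CohSys T :=
    { F := fun k => CohB1.tensorPow (L k) n
      coh := fun k => haveI := T.isNoetherian k; CurveLib.isCoh_of_isInvertible (isInvertible_tensorPow (hL k) n)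
      ψ := fun k => pullPow (T.i k) (L (k + 1)) n ≪≫ powCongr (φ k).some n }
  refine ⟨E, fun k => rfl, fun k => ?_⟩
  haveI := T.isNoetherian (k + 1)
  let adj := Scheme.Modules.pullbackPushforwardAdjunction (T.i k)
  let P := CohB1.tensorPow (L (k + 1)) n
  have hses : (ShortComplex.mk (kernel.ι (E₀.π k)) (E₀.π k) (kernel.condition _)).ShortExact :=
    ShortComplex.ShortExact.mk' (ShortComplex.exact_of_f_is_kernel _ (kernelIsKernel _)) inferInstance inferInstance
  have hT := CurveLib.shortExact_tensR hses (CurveLib.freeAt_one_of_isInvertible (isInvertible_tensorPow (hL (k + 1)) n))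
  let b : tmod (E₀.S (k + 1)) P ≅ kernel (((DCoh.tensorBi (X := T.X (k + 1))).map (E₀.π k)).app P) :=
    hT.fIsKernel.conePointUniqueUpToIso (limit.isLimit _)
  obtain ⟨ε, hε⟩ := exists_unit_factor (T.i k) (E₀.ψ k) P
  let c : tmod (Coh.structureModule (T.X (k + 1))) P ≅ P := CurveLib.tmodUnit P
  let e : tmod (E₀.S (k + 1)) P ≅ kernel (E.π k) :=
    b ≪≫ (kernelCompMono _ (projIso (T.i k) (E₀.F k) P).hom).symm ≪≫
      kernelIsoOfEq hε ≪≫ kernelCompMono _ _ ≪≫
      kernel.mapIso (adj.unit.app _) (adj.unit.app P) c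
        ((Scheme.Modules.pushforward (T.i k)).mapIso ((Scheme.Modules.pullback (T.i k)).mapIso c))
        (adj.unit.naturality c.hom).symm ≪≫
      (kernelCompMono _ ((Scheme.Modules.pushforward (T.i k)).map (E.ψ k).hom)).symm
  exact SerreAff.surjective_top (E.π k) (CurveLib.subsingleton_HH_iso e 1 (h₀ n hn (k + 1) 1 one_pos).1)

end Groth.Agent.FormalAmple
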