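import Groth.Agent.FormalAmpleLib.Tow
import Groth.Agent.DCohLib.ProjClosed
import Groth.Agent.DCohLib.Pullback
import Groth.Agent.FormalSysLib.UniformVan
import Groth.Agent.FactorOne.Basic
import Groth.Agent.GrassShLib.Kernel
import Groth.Agent.ProjSerreLib.ClosedSub
import Groth.Agent.PullbackMod.Props

/-!
# The graded pieces of a coherent module on a tower of thickenings
-/

set_option autoImplicit false
set_option linter.style.haveILetI false
set_option backward.isDefEq.respectTransparency false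
set_option maxHeartbeats 1000000

universe u

open CategoryTheory CategoryTheory.Limits AlgebraicGeometry TopologicalSpace Opposite
open Groth.Agent.PullbackMod Groth.Agent.DCohLib

noncomputable section

namespace Groth.Agent.FormalAmple

theorem pushStalk_natural {X Y : Scheme.{u}} (i : X ⟶ Y) {M N : X.Modules} (f : M ⟶ N) (x : X)
    (z : ((Scheme.Modules.pushforward i).obj M).presheaf.stalk (i x)) :
    pushStalk i N x (stalkLin ((Scheme.Modules.pushforward i).map f) (i x) z) = stalkLin f x (pushStalk i M x z) := by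
  obtain ⟨U, hU, z, rfl⟩ := TopCat.Presheaf.exists_germ_eq ((Scheme.Modules.pushforward i).obj M).presheaf z
  exact ((congrArg _ (stalkLin_germ _ (i x) hU z)).trans (pushStalk_germ i N x hU _)).trans
    ((stalkLin_germ f x hU z).symm.trans (congrArg _ (pushStalk_germ i M x hU z).symm))

/-- The map to the base change along a surjection is surjective with kernel generated by that of the surjection. -/
theorem mk_one_surjective_ker {R B M : Type u} [CommRing R] [CommRing B] [Algebra R B] [AddCommGroup M] [Module R M]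
    (hsurj : Function.Surjective (algebraMap R B)) :
    Function.Surjective (fun t : M => (1 : B) ⊗ₜ[R] t) ∧
      ∀ t : M, (1 : B) ⊗ₜ[R] t = 0 → t ∈ RingHom.ker (algebraMap R B) • (⊤ : Submodule R M) := by
  constructor
  · intro c
    induction c using TensorProduct.induction_on with
    | zero => exact ⟨0, TensorProduct.tmul_zero _ _⟩
    | tmul b t =>
      obtain ⟨a, rfl⟩ := hsurj b
      refine ⟨a • t, ?_⟩
      show (1 : B) ⊗ₜ[R] (a • t) = algebraMap R B a ⊗ₜ[R] t
      rw [Algebra.algebraMap_eq_smul_one, TensorProduct.smul_tmul]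
    | add p q hp hq =>
      obtain ⟨⟨u, hu⟩, v, hv⟩ := And.intro hp hq
      exact ⟨u + v, (TensorProduct.tmul_add _ u v).trans (congrArg₂ (· + ·) hu hv)⟩
  · intro t ht
    have hex := rTensor_exact M (LinearMap.exact_subtype_ker_map (Algebra.linearMap R B)) hsurj
    obtain ⟨n, hn⟩ := (hex ((1 : R) ⊗ₜ[R] t)).1 (by
      rw [LinearMap.rTensor_tmul]
      show algebraMap R B 1 ⊗ₜ[R] t = 0
      rw [map_one]
      exact ht)
    have h0 : ∀ n, TensorProduct.lid R M ((LinearMap.ker (Algebra.linearMap R B)).subtype.rTensor M n) ∈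
        RingHom.ker (algebraMap R B) • (⊤ : Submodule R M) := fun n => by
      induction n using TensorProduct.induction_on with
      | zero => rw [map_zero, map_zero]; exact Submodule.zero_mem _
      | tmul a t =>
        rw [LinearMap.rTensor_tmul, TensorProduct.lid_tmul]
        exact Submodule.smul_mem_smul (show a.1 ∈ _ from a.2) Submodule.mem_top
      | add p q hp hq => rw [map_add, map_add]; exact Submodule.add_mem _ hp hq
    have h2 := h0 n
    rwa [hn, TensorProduct.lid_tmul, one_smul] at h2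

theorem stalkLin_comp_apply {X : Scheme.{u}} {M N P : X.Modules} (f : M ⟶ N) (g : N ⟶ P) (x : X)
    (z : M.presheaf.stalk x) : stalkLin (f ≫ g) x z = stalkLin g x (stalkLin f x z) :=
  LinearMap.congr_fun (stalkLin_comp f g x) z

theorem stalkLin_iso_injective {X : Scheme.{u}} {M N : X.Modules} (f : M ⟶ N) [IsIso f] (x : X) :
    Function.Injective (stalkLin f x) :=
  ((isIso_iff_stalk f).1 inferInstance x).1

variable {A : Type u} [CommRing A] {J : Ideal A}

/-- A compatible system of coherent modules. -/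
structure CohSys (T : Tow A J) where
  /-- The modules. -/
  F : ∀ k, (T.X k).Modules
  coh : ∀ k, Coh.IsCoh (F k)
  /-- The comparison. -/
  ψ : ∀ k, (Scheme.Modules.pullback (T.i k)).obj (F (k + 1)) ≅ F k

namespace CohSys

variable {T : Tow A J} (E : CohSys T)

/-- The restriction. -/
def π (k : ℕ) : E.F (k + 1) ⟶ (Scheme.Modules.pushforward (T.i k)).obj (E.F k) :=
  (Scheme.Modules.pullbackPushforwardAdjunction (T.i k)).unit.app (E.F (k + 1)) ≫
    (Scheme.Modules.pushforward (T.i k)).map (E.ψ k).hom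

/-- The restriction on stalks. -/
def r (k : ℕ) (x : T.X k) : (E.F (k + 1)).presheaf.stalk (T.i k x) →+ (E.F k).presheaf.stalk x :=
  (pushStalk (T.i k) (E.F k) x).comp (stalkLin (E.π k) (T.i k x)).toAddMonoidHom

theorem r_eq (k : ℕ) (x : T.X k) (z : (E.F (k + 1)).presheaf.stalk (T.i k x)) :
    E.r k x z = stalkLin (E.ψ k).hom x (pullStalk (T.i k) (E.F (k + 1)) x z) := by
  show pushStalk _ _ x (stalkLin (E.π k) (T.i k x) z) = _
  rw [π, stalkLin_comp, LinearMap.comp_apply]
  exact (pushStalk_natural (T.i k) (E.ψ k).hom x _).trans (congrArg _ (unit_stalk_pushStalk (T.i k) (E.F (k + 1)) x z))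

theorem r_smul (k : ℕ) (x : T.X k) (a : (T.X (k + 1)).presheaf.stalk (T.i k x))
    (z : (E.F (k + 1)).presheaf.stalk (T.i k x)) : E.r k x (a • z) = (T.i k).stalkMap x a • E.r k x z := by
  rw [r_eq, r_eq, pullStalk_smul, map_smul]

theorem bijective_stalk_ψ (k : ℕ) (x : T.X k) : Function.Bijective (stalkLin (E.ψ k).hom x) :=
  (isIso_iff_stalk _).1 inferInstance x

theorem r_surjective (k : ℕ) (x : T.X k) : Function.Surjective (E.r k x) := by
  intro y
  obtain ⟨c, rfl⟩ := (E.bijective_stalk_ψ k x).2 y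
  letI := ((T.i k).stalkMap x).hom.toAlgebra
  obtain ⟨c, rfl⟩ := (pullStalkEquiv (T.i k) x (E.F (k + 1))).surjective c
  obtain ⟨t, rfl⟩ := (mk_one_surjective_ker ((T.i k).stalkMap_surjective x)).1 c
  refine ⟨t, ?_⟩
  rw [r_eq, pullStalkEquiv_tmul, one_smul]

theorem mem_of_r_eq_zero (k : ℕ) (x : T.X k) (z : (E.F (k + 1)).presheaf.stalk (T.i k x)) (hz : E.r k x z = 0) :
    z ∈ (J ^ (k + 1)).map (T.ρ (k + 1) (T.i k x)) • (⊤ : Submodule ((T.X (k + 1)).presheaf.stalk (T.i k x)) _) := by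
  rw [r_eq] at hz
  have h1 := (E.bijective_stalk_ψ k x).1 (hz.trans (map_zero _).symm)
  letI := ((T.i k).stalkMap x).hom.toAlgebra
  have h2 : pullStalkEquiv (T.i k) x (E.F (k + 1)) (1 ⊗ₜ z) = 0 := by
    rw [pullStalkEquiv_tmul, one_smul, h1]
  have h3 := (mk_one_surjective_ker ((T.i k).stalkMap_surjective x)).2 z
    ((pullStalkEquiv (T.i k) x (E.F (k + 1))).injective (h2.trans (map_zero _).symm))
  rw [← T.ker_stalkMap_i k x]
  exact h3

theorem r_eq_zero_of_mem (k : ℕ) (x : T.X k) (z : (E.F (k + 1)).presheaf.stalk (T.i k x))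
    (hz : z ∈ (J ^ (k + 1)).map (T.ρ (k + 1) (T.i k x)) • (⊤ : Submodule ((T.X (k + 1)).presheaf.stalk (T.i k x)) _)) :
    E.r k x z = 0 := by
  rw [← T.ker_stalkMap_i k x] at hz
  refine Submodule.smul_induction_on hz (fun c hc y _ => ?_) (fun p q hp hq => by rw [map_add, hp, hq, add_zero])
  rw [r_smul, show (T.i k).stalkMap x c = 0 from hc, zero_smul]

instance epi_π (k : ℕ) : Epi (E.π k) := (epi_iff_stalk _).2 fun y => by
  obtain ⟨x, rfl⟩ := (T.i k).surjective y
  intro w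
  obtain ⟨z, hz⟩ := E.r_surjective k x (pushStalk (T.i k) (E.F k) x w)
  exact ⟨z, (bijective_pushStalk (T.i k) (E.F k) x).1 hz⟩

/-- The subobjects of the graded pieces. -/
def Su : ∀ k, Σ S : (T.X k).Modules, S ⟶ E.F k
  | 0 => ⟨E.F 0, 𝟙 _⟩
  | k + 1 => ⟨kernel (E.π k), kernel.ι (E.π k)⟩

/-- The graded piece inside the module. -/
abbrev S (k : ℕ) : (T.X k).Modules := (E.Su k).1

/-- The inclusion. -/
abbrev u (k : ℕ) : E.S k ⟶ E.F k := (E.Su k).2

instance mono_u : ∀ k, Mono (E.u k)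
  | 0 => inferInstanceAs (Mono (𝟙 (E.F 0)))
  | k + 1 => inferInstanceAs (Mono (kernel.ι (E.π k)))

theorem u_injective (k : ℕ) (y : T.X k) : Function.Injective (stalkLin (E.u k) y) :=
  (mono_iff_stalk _).1 inferInstance y

theorem mem_range_u : ∀ (k : ℕ) (y : T.X k) (z : (E.F k).presheaf.stalk y),
    (∃ w, stalkLin (E.u k) y w = z) ↔
      z ∈ (J ^ k).map (T.ρ k y) • (⊤ : Submodule ((T.X k).presheaf.stalk y) _)
  | 0, y, z => by
    rw [pow_zero, Ideal.one_eq_top, Ideal.map_top, Submodule.top_smul]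
    refine ⟨fun _ => Submodule.mem_top, fun _ => ⟨z, ?_⟩⟩
    show stalkLin (𝟙 (E.F 0)) y z = z
    rw [stalkLin_id]
    rfl
  | k + 1, y, z => by
    obtain ⟨x, rfl⟩ := (T.i k).surjective y
    have hex := exact_stalkLin (ShortComplex.mk (kernel.ι (E.π k)) (E.π k) (kernel.condition _))
      (ShortComplex.exact_of_f_is_kernel _ (kernelIsKernel _)) (T.i k x)
    refine ⟨fun h => E.mem_of_r_eq_zero k x z ?_, fun h => (hex z).1 ?_⟩
    · show pushStalk _ _ x (stalkLin (E.π k) (T.i k x) z) = 0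
      rw [show stalkLin (E.π k) (T.i k x) z = 0 from (hex z).2 h, map_zero]
    · exact (bijective_pushStalk (T.i k) (E.F k) x).1 ((E.r_eq_zero_of_mem k x z h).trans (map_zero _).symm)

theorem smul_ρ_eq_zero (k : ℕ) (y : T.X k) {a : A} (ha : a ∈ J) (w : (E.S k).presheaf.stalk y) :
    T.ρ k y a • w = 0 := by
  refine E.u_injective k y ?_
  rw [map_smul, map_zero]
  refine Submodule.smul_induction_on ((E.mem_range_u k y _).1 ⟨w, rfl⟩) (fun c hc v _ => ?_)
    (fun p q hp hq => by rw [smul_add, hp, hq, add_zero])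
  rw [smul_smul]
  have h : T.ρ k y a * c ∈ (J ^ (k + 1)).map (T.ρ k y) := by
    rw [pow_succ', Ideal.map_mul]
    exact Ideal.mul_mem_mul (Ideal.mem_map_of_mem _ ha) hc
  have h0 : (J ^ (k + 1)).map (T.ρ k y) = ⊥ :=
    (Ideal.map_eq_bot_iff_le_ker _).2 fun b hb => T.ρ_eq_zero hb y
  rw [h0, Ideal.mem_bot] at h
  rw [h, zero_smul]

theorem suppOn_S (k : ℕ) : SuppOn (T.ι k) (E.S k) where
  subsingleton y hy := absurd ((T.ι k).surjective y) hy
  smul_eq_zero x c hc z := by
    have hc' : c ∈ J.map (T.ρ k (T.ι k x)) := by rw [← T.ker_stalkMap_ι k x]; exact hc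
    have hle : J.map (T.ρ k (T.ι k x)) ≤
        LinearMap.ker (LinearMap.toSpanSingleton ((T.X k).presheaf.stalk (T.ι k x)) _ z) :=
      Ideal.map_le_iff_le_comap.2 fun a ha => by
        rw [Ideal.mem_comap, LinearMap.mem_ker]
        exact E.smul_ρ_eq_zero k _ ha z
    exact hle hc'

/-- The functions of the base on a level. -/
def γ (k : ℕ) (a : A) : Γ(T.X k, ⊤) :=
  ((Scheme.ΓSpecIso (CommRingCat.of (A ⧸ J ^ (k + 1)))).inv ≫ (T.p k).appTop) (Ideal.Quotient.mk (J ^ (k + 1)) a)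

theorem stalk_mul (k : ℕ) (a : A) (y : T.X k) (z : (E.F k).presheaf.stalk y) :
    stalkLin (FactorOne.mulEnd (E.F k) (γ (T := T) k a)) y z = T.ρ k y a • z := by
  obtain ⟨U, hU, z, rfl⟩ := TopCat.Presheaf.exists_germ_eq (E.F k).presheaf z
  rw [stalkLin_germ, FactorOne.mulEnd_app]
  refine (PresheafOfModules.germ_smul (R := (T.X k).presheaf) (E.F k).val y U hU _ _).trans ?_
  exact congrArg (· • _) (((T.X k).presheaf.germ_res_apply (homOfLE (le_top : U ≤ ⊤)) y hU _).trans rfl)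

theorem kernel_mul_eq_zero (k : ℕ) {a : A} (ha : a ∈ J) :
    kernel.ι (E.π k) ≫ FactorOne.mulEnd (E.F (k + 1)) (γ (T := T) (k + 1) a) = 0 := by
  refine (eq_zero_iff_stalk _).2 fun y => LinearMap.ext fun w => ?_
  rw [stalkLin_comp, LinearMap.comp_apply, stalk_mul, ← map_smul, LinearMap.zero_apply]
  rw [show T.ρ (k + 1) y a • w = 0 from E.smul_ρ_eq_zero (k + 1) y ha w, map_zero]

/-- Multiplication by an element of the ideal, from one level to the next. -/
def g (k : ℕ) {a : A} (ha : a ∈ J) : (Scheme.Modules.pushforward (T.i k)).obj (E.F k) ⟶ E.F (k + 1) :=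
  (ShortComplex.exact_of_f_is_kernel (ShortComplex.mk (kernel.ι (E.π k)) (E.π k) (kernel.condition _))
    (kernelIsKernel _)).desc (FactorOne.mulEnd (E.F (k + 1)) (γ (T := T) (k + 1) a)) (E.kernel_mul_eq_zero k ha)

theorem π_g (k : ℕ) {a : A} (ha : a ∈ J) :
    E.π k ≫ E.g k ha = FactorOne.mulEnd (E.F (k + 1)) (γ (T := T) (k + 1) a) :=
  (ShortComplex.exact_of_f_is_kernel (ShortComplex.mk (kernel.ι (E.π k)) (E.π k) (kernel.condition _))
    (kernelIsKernel _)).g_desc (FactorOne.mulEnd (E.F (k + 1)) (γ (T := T) (k + 1) a)) (E.kernel_mul_eq_zero k ha)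

theorem stalk_g (k : ℕ) {a : A} (ha : a ∈ J) (x : T.X k)
    (v : ((Scheme.Modules.pushforward (T.i k)).obj (E.F k)).presheaf.stalk (T.i k x))
    (w : (E.F (k + 1)).presheaf.stalk (T.i k x)) (hw : E.r k x w = pushStalk (T.i k) (E.F k) x v) :
    stalkLin (E.g k ha) (T.i k x) v = T.ρ (k + 1) (T.i k x) a • w := by
  have hv : stalkLin (E.π k) (T.i k x) w = v := (bijective_pushStalk (T.i k) (E.F k) x).1 hw
  rw [← hv, ← LinearMap.comp_apply, ← stalkLin_comp, π_g, stalk_mul]

theorem push_u_g_π (k : ℕ) {a : A} (ha : a ∈ J) :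
    ((Scheme.Modules.pushforward (T.i k)).map (E.u k) ≫ E.g k ha) ≫ E.π k = 0 := by
  refine (eq_zero_iff_stalk _).2 fun y => LinearMap.ext fun v => ?_
  obtain ⟨x, rfl⟩ := (T.i k).surjective y
  rw [stalkLin_comp, LinearMap.comp_apply, stalkLin_comp, LinearMap.comp_apply, LinearMap.zero_apply]
  obtain ⟨w, hw⟩ := E.r_surjective k x
    (pushStalk (T.i k) (E.F k) x (stalkLin ((Scheme.Modules.pushforward (T.i k)).map (E.u k)) (T.i k x) v))
  rw [E.stalk_g k ha x _ w hw]
  refine (bijective_pushStalk (T.i k) (E.F k) x).1 ?_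
  show E.r k x (T.ρ (k + 1) (T.i k x) a • w) = _
  rw [map_zero, r_smul, T.stalkMap_ρ, hw, pushStalk_natural, ← map_smul, E.smul_ρ_eq_zero k x ha, map_zero]

/-- Multiplication on the graded pieces. -/
def m' (k : ℕ) {a : A} (ha : a ∈ J) : (Scheme.Modules.pushforward (T.i k)).obj (E.S k) ⟶ E.S (k + 1) :=
  kernel.lift (E.π k) ((Scheme.Modules.pushforward (T.i k)).map (E.u k) ≫ E.g k ha) (E.push_u_g_π k ha)

theorem stalk_m' (k : ℕ) {a : A} (ha : a ∈ J) (x : T.X k)
    (v : ((Scheme.Modules.pushforward (T.i k)).obj (E.S k)).presheaf.stalk (T.i k x))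
    (w : (E.F (k + 1)).presheaf.stalk (T.i k x))
    (hw : E.r k x w = stalkLin (E.u k) x (pushStalk (T.i k) (E.S k) x v)) :
    stalkLin (E.u (k + 1)) (T.i k x) (stalkLin (E.m' k ha) (T.i k x) v) = T.ρ (k + 1) (T.i k x) a • w := by
  rw [← LinearMap.comp_apply, ← stalkLin_comp,
    show E.m' k ha ≫ E.u (k + 1) = (Scheme.Modules.pushforward (T.i k)).map (E.u k) ≫ E.g k ha from
      kernel.lift_ι _ _ _, stalkLin_comp, LinearMap.comp_apply]
  exact E.stalk_g k ha x _ w (hw.trans (pushStalk_natural (T.i k) (E.u k) x v).symm)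

/-- The graded pieces on the first level. -/
def K (k : ℕ) : (T.X 0).Modules := (Scheme.Modules.pullback (T.ι k)).obj (E.S k)

/-- The counit of the transition, inverted. -/
def counitInv (k : ℕ) : E.S k ⟶
    (Scheme.Modules.pullback (T.i k)).obj ((Scheme.Modules.pushforward (T.i k)).obj (E.S k)) :=
  haveI := isIso_counit_closedImmersion (T.i k) (E.S k)
  inv ((Scheme.Modules.pullbackPushforwardAdjunction (T.i k)).counit.app (E.S k))

/-- Multiplication on the graded pieces, on the first level. -/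
def m (k : ℕ) {a : A} (ha : a ∈ J) : E.K k ⟶ E.K (k + 1) :=
  (Scheme.Modules.pullback (T.ι k)).map (E.counitInv k) ≫
    (Scheme.Modules.pullbackComp (T.ι k) (T.i k)).hom.app _ ≫
      (Scheme.Modules.pullback (T.ι (k + 1))).map (E.m' k ha)

theorem stalk_counitInv (k : ℕ) (y : T.X k)
    (v : ((Scheme.Modules.pushforward (T.i k)).obj (E.S k)).presheaf.stalk (T.i k y)) :
    stalkLin (E.counitInv k) y (pushStalk (T.i k) (E.S k) y v) =
      pullStalk (T.i k) ((Scheme.Modules.pushforward (T.i k)).obj (E.S k)) y v := by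
  haveI := isIso_counit_closedImmersion (T.i k) (E.S k)
  refine stalkLin_iso_injective ((Scheme.Modules.pullbackPushforwardAdjunction (T.i k)).counit.app (E.S k)) y ?_
  refine (stalkLin_comp_apply _ _ y _).symm.trans (Eq.trans ?_ (counit_stalk_pullStalk (T.i k) (E.S k) y v).symm)
  rw [show E.counitInv k ≫ (Scheme.Modules.pullbackPushforwardAdjunction (T.i k)).counit.app (E.S k) = 𝟙 _ from
    IsIso.inv_hom_id _, stalkLin_id]
  rfl

theorem stalk_m (k : ℕ) {a : A} (ha : a ∈ J) (x : T.X 0) (z : (E.S k).presheaf.stalk (T.ι k x))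
    (w : (E.F (k + 1)).presheaf.stalk (T.i k (T.ι k x)))
    (hw : E.r k (T.ι k x) w = stalkLin (E.u k) (T.ι k x) z) :
    ∃ z' : (E.S (k + 1)).presheaf.stalk (T.i k (T.ι k x)),
      stalkLin (E.m k ha) x (pullStalk (T.ι k) (E.S k) x z) = pullStalk (T.ι (k + 1)) (E.S (k + 1)) x z' ∧
        stalkLin (E.u (k + 1)) (T.i k (T.ι k x)) z' = T.ρ (k + 1) (T.i k (T.ι k x)) a • w := by
  obtain ⟨v, rfl⟩ := (bijective_pushStalk (T.i k) (E.S k) (T.ι k x)).2 z
  refine ⟨stalkLin (E.m' k ha) (T.i k (T.ι k x)) v, ?_, E.stalk_m' k ha (T.ι k x) v w hw⟩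
  refine (stalkLin_comp_apply _ _ x _).trans ((stalkLin_comp_apply _ _ x _).trans ?_)
  refine (congrArg _ (congrArg _ ((pullStalk_natural (T.ι k) (E.counitInv k) x _).trans
    (congrArg _ (E.stalk_counitInv k (T.ι k x) v))))).trans ?_
  refine (congrArg _ (GrassShLib.pullStalk_comp (M := (Scheme.Modules.pushforward (T.i k)).obj (E.S k))
    (T.ι k) (T.i k) x v)).trans ?_
  exact pullStalk_natural (T.ι k ≫ T.i k) (E.m' k ha) x v

theorem m_comm (k : ℕ) {a b : A} (ha : a ∈ J) (hb : b ∈ J) :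
    E.m k ha ≫ E.m (k + 1) hb = E.m k hb ≫ E.m (k + 1) ha := by
  refine hom_ext_stalk fun x => LinearMap.ext fun c => ?_
  obtain ⟨z, rfl⟩ := (bijective_pullStalk (T.ι k) (E.suppOn_S k) x).2 c
  let y := T.i k (T.ι k x)
  let y' := T.i (k + 1) y
  obtain ⟨w, hw⟩ := E.r_surjective k (T.ι k x) (stalkLin (E.u k) (T.ι k x) z)
  obtain ⟨w', hw'⟩ := E.r_surjective (k + 1) y w
  have hlift : ∀ d : A, E.r (k + 1) y (T.ρ (k + 1 + 1) y' d • w') = T.ρ (k + 1) y d • w := fun d => by
    refine (E.r_smul (k + 1) _ _ _).trans ?_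
    rw [hw']
    exact congrArg (· • w) (T.stalkMap_ρ (k + 1) _ d)
  rw [stalkLin_comp_apply, stalkLin_comp_apply]
  obtain ⟨za, ea, hza⟩ := E.stalk_m k ha x z w hw
  obtain ⟨zb, eb, hzb⟩ := E.stalk_m k hb x z w hw
  rw [ea, eb]
  obtain ⟨z1, e1, hz1⟩ := E.stalk_m (k + 1) hb x za (T.ρ (k + 1 + 1) y' a • w') ((hlift a).trans hza.symm)
  obtain ⟨z2, e2, hz2⟩ := E.stalk_m (k + 1) ha x zb (T.ρ (k + 1 + 1) y' b • w') ((hlift b).trans hzb.symm)
  rw [e1, e2]
  refine congrArg _ (E.u_injective (k + 1 + 1) y' (hz1.trans (Eq.trans ?_ hz2.symm)))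
  show T.ρ (k + 1 + 1) y' b • T.ρ (k + 1 + 1) y' a • w' = T.ρ (k + 1 + 1) y' a • T.ρ (k + 1 + 1) y' b • w'
  exact (smul_smul _ _ w').trans ((congrArg (· • w') (mul_comm _ _)).trans (smul_smul _ _ w').symm)

theorem stalkGen_m {n : ℕ} (f : Fin n → A) (hf : Ideal.span (Set.range f) = J) (hmem : ∀ j, f j ∈ J) (k : ℕ) :
    FormalSys.StalkGen fun j => E.m k (hmem j) := by
  classical
  intro x c
  obtain ⟨z', rfl⟩ := (bijective_pullStalk (T.ι (k + 1)) (E.suppOn_S (k + 1)) x).2 c
  let y := T.i k (T.ι k x)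
  let R := (T.X (k + 1)).presheaf.stalk y
  let M := (E.F (k + 1)).presheaf.stalk y
  let Sk : Submodule R M := (J ^ k).map (T.ρ (k + 1) y) • ⊤
  have hmem' : stalkLin (E.u (k + 1)) y z' ∈ J.map (T.ρ (k + 1) y) • Sk := by
    rw [← Submodule.smul_assoc, smul_eq_mul, ← Ideal.map_mul, ← pow_succ']
    exact (E.mem_range_u (k + 1) y _).1 ⟨z', rfl⟩
  have hspan : J.map (T.ρ (k + 1) y) = Ideal.span (Set.range fun j => T.ρ (k + 1) y (f j)) := by
    refine le_antisymm (Ideal.map_le_iff_le_comap.2 ?_) (Ideal.span_le.2 ?_)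
    · refine hf.ge.trans (Ideal.span_le.2 ?_)
      rintro _ ⟨j, rfl⟩
      exact Ideal.subset_span ⟨j, rfl⟩
    · rintro _ ⟨j, rfl⟩
      exact Ideal.mem_map_of_mem _ (hmem j)
  rw [hspan] at hmem'
  have hex : ∃ v : Fin n → M, (∀ j, v j ∈ Sk) ∧ ∑ j, T.ρ (k + 1) y (f j) • v j = stalkLin (E.u (k + 1)) y z' := by
    refine Submodule.smul_induction_on hmem' (fun c hc v hv => ?_) ?_
    · obtain ⟨l, rfl⟩ := (Submodule.mem_span_range_iff_exists_fun _).1 hc
      refine ⟨fun j => l j • v, fun j => Sk.smul_mem _ hv, ?_⟩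
      rw [Finset.sum_smul]
      exact Finset.sum_congr rfl fun j _ => by rw [smul_smul, smul_eq_mul, mul_comm]
    · rintro p q ⟨v, hv, ev⟩ ⟨v', hv', ev'⟩
      refine ⟨v + v', fun j => Sk.add_mem (hv j) (hv' j), ?_⟩
      simp only [Pi.add_apply, smul_add, Finset.sum_add_distrib, ev, ev']
  obtain ⟨v, hv, hsum⟩ := hex
  have hr : ∀ j, ∃ z, stalkLin (E.u k) (T.ι k x) z = E.r k (T.ι k x) (v j) := fun j => by
    refine (E.mem_range_u k _ _).2 ?_
    refine Submodule.smul_induction_on (hv j) (fun c hc t _ => ?_) (fun p q hp hq => by rw [map_add]; exact add_mem hp hq)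
    rw [r_smul]
    refine Submodule.smul_mem_smul ?_ Submodule.mem_top
    have h := Ideal.mem_map_of_mem ((T.i k).stalkMap (T.ι k x)).hom hc
    rw [Ideal.map_map] at h
    rwa [show ((T.i k).stalkMap (T.ι k x)).hom.comp (T.ρ (k + 1) y) = T.ρ k (T.ι k x) from
      RingHom.ext (T.stalkMap_ρ k _)] at h
  choose z hz using hr
  refine ⟨fun j => pullStalk (T.ι k) (E.S k) x (z j), ?_⟩
  choose z'' e1 e2 using fun j => E.stalk_m k (hmem j) x (z j) (v j) (hz j).symm
  refine Eq.trans ?_ (Finset.sum_congr rfl fun j _ => e1 j).symm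
  refine Eq.trans (congrArg _ (E.u_injective (k + 1) y ?_))
    (map_sum (pullStalk (T.ι (k + 1)) (E.S (k + 1)) x) z'' Finset.univ)
  rw [map_sum]
  exact hsum.symm.trans (Finset.sum_congr rfl fun j _ => (e2 j).symm)

end CohSys

end Groth.Agent.FormalAmple
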