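import Groth.Agent.FormalAmpleLib.Kernel
import Groth.Agent.AdicPicLib.Kernel
import Groth.Agent.ThickFTLib.Basic
import Groth.Agent.FormalLib.SuppProper
import Groth.Agent.PullbackMod.Stalk

/-!
# Towers of thickenings
-/

set_option autoImplicit false
set_option linter.style.haveILetI false
set_option backward.isDefEq.respectTransparency false

universe u

open CategoryTheory CategoryTheory.Limits AlgebraicGeometry TopologicalSpace Opposite

noncomputable section

namespace Groth.Agent.FormalAmple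

variable (A : Type u) [CommRing A] (J : Ideal A)

/-- A tower of schemes cartesian over the quotients by the powers of an ideal. -/
structure Tow where
  /-- The levels. -/
  X : ℕ → Scheme.{u}
  /-- The structure maps. -/
  p : ∀ k, X k ⟶ Spec (CommRingCat.of (A ⧸ J ^ (k + 1)))
  /-- The transitions. -/
  i : ∀ k, X k ⟶ X (k + 1)
  cart : ∀ k, IsPullback (i k) (p k) (p (k + 1)) (CohB1.specQuotTrans J k)

variable {A J} (T : Tow A J)

/-- The quotient map to the first level. -/
def toZero (k : ℕ) : A ⧸ J ^ (k + 1) →+* A ⧸ J ^ (0 + 1) :=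
  Ideal.Quotient.factor (Ideal.pow_le_pow_right (Nat.succ_le_succ (Nat.zero_le k)))

theorem toZero_surjective (k : ℕ) : Function.Surjective (toZero (A := A) (J := J) k) :=
  Ideal.Quotient.factor_surjective _

theorem ker_toZero (k : ℕ) :
    RingHom.ker (toZero (A := A) (J := J) k) = J.map (Ideal.Quotient.mk (J ^ (k + 1))) := by
  rw [toZero, Ideal.Quotient.factor_ker, zero_add, pow_one]

namespace Tow

instance isClosedImmersion_i (k : ℕ) : IsClosedImmersion (T.i k) :=
  haveI : IsClosedImmersion (CohB1.specQuotTrans J k) :=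
    IsClosedImmersion.spec_of_surjective _ (Ideal.Quotient.factor_surjective (Ideal.pow_le_pow_right (Nat.le_succ (k + 1))))
  MorphismProperty.of_isPullback (T.cart k).flip inferInstance

/-- The inclusion of the first level. -/
def ι : ∀ k, T.X 0 ⟶ T.X k
  | 0 => 𝟙 _
  | k + 1 => ι k ≫ T.i k

theorem sq_zero : ∀ k, IsPullback (T.ι k) (T.p 0) (T.p k) (Spec.map (CommRingCat.ofHom (toZero k)))
  | 0 => by
    rw [show toZero (A := A) (J := J) 0 = RingHom.id _ from Ideal.Quotient.ringHom_ext (RingHom.ext fun a => rfl),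
      CommRingCat.ofHom_id, Spec.map_id]
    show IsPullback (𝟙 (T.X 0)) (T.p 0) (T.p 0) (𝟙 _)
    exact IsPullback.of_horiz_isIso ⟨by simp⟩
  | k + 1 => by
    have h := (sq_zero k).paste_horiz (T.cart k)
    rw [CohB1.specQuotTrans, ← Spec.map_comp, ← CommRingCat.ofHom_comp] at h
    rw [show toZero (A := A) (J := J) (k + 1) =
      (toZero k).comp (Ideal.Quotient.factor (Ideal.pow_le_pow_right (Nat.le_succ (k + 1)))) from
        Ideal.Quotient.ringHom_ext (RingHom.ext fun a => rfl)]
    exact h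

instance isClosedImmersion_ι (k : ℕ) : IsClosedImmersion (T.ι k) :=
  haveI : IsClosedImmersion (Spec.map (CommRingCat.ofHom (toZero (A := A) (J := J) k))) :=
    IsClosedImmersion.spec_of_surjective _ (toZero_surjective k)
  MorphismProperty.of_isPullback (T.sq_zero k).flip inferInstance

instance surjective_i (k : ℕ) : Surjective (T.i k) :=
  haveI : Surjective (CohB1.specQuotTrans J k) := ⟨fun q => by
    have hle : J ^ (k + 1 + 1) ≤ J ^ (k + 1) := Ideal.pow_le_pow_right (Nat.le_succ (k + 1))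
    refine (Set.ext_iff.1 (range_comap_of_surjective _ _ (Ideal.Quotient.factor_surjective hle)) q).2 ?_
    intro x hx
    obtain ⟨a, rfl⟩ := Ideal.Quotient.mk_surjective x
    have ha : a ∈ J ^ (k + 1) := Ideal.Quotient.eq_zero_iff_mem.1 hx
    have h0 : Ideal.Quotient.mk (J ^ (k + 1 + 1)) (a ^ 2) = 0 :=
      Ideal.Quotient.eq_zero_iff_mem.2 (Ideal.pow_le_pow_right (show k + 1 + 1 ≤ (k + 1) * 2 by omega)
        (by rw [pow_mul]; exact Ideal.pow_mem_pow ha 2))
    refine q.2.mem_of_pow_mem 2 ?_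
    rw [← map_pow, h0]
    exact q.asIdeal.zero_mem⟩
  MorphismProperty.of_isPullback (T.cart k).flip inferInstance

theorem surjective_ι : ∀ k, Surjective (T.ι k)
  | 0 => inferInstanceAs (Surjective (𝟙 (T.X 0)))
  | k + 1 =>
    haveI := surjective_ι k
    inferInstanceAs (Surjective (T.ι k ≫ T.i k))

instance (k : ℕ) : Surjective (T.ι k) := T.surjective_ι k

/-- The action of `A` on a local ring. -/
def ρ (k : ℕ) (x : T.X k) : A →+* (T.X k).presheaf.stalk x :=
  (baseStalk (T.p k) x).hom.comp (Ideal.Quotient.mk (J ^ (k + 1)))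

theorem ρ_eq_zero {k : ℕ} {a : A} (ha : a ∈ J ^ (k + 1)) (x : T.X k) : T.ρ k x a = 0 := by
  rw [ρ, RingHom.comp_apply, Ideal.Quotient.eq_zero_iff_mem.2 ha, map_zero]

theorem stalkMap_ρ (k : ℕ) (z : T.X k) (a : A) :
    (T.i k).stalkMap z (T.ρ (k + 1) (T.i k z) a) = T.ρ k z a := by
  show (T.i k).stalkMap z (baseStalk (T.p (k + 1)) (T.i k z) (Ideal.Quotient.mk _ a)) = _
  rw [stalkMap_baseStalk, (T.cart k).w, CohB1.specQuotTrans, baseStalk_comp]
  rfl

theorem ker_stalkMap_i (k : ℕ) (z : T.X k) :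
    RingHom.ker ((T.i k).stalkMap z).hom = (J ^ (k + 1)).map (T.ρ (k + 1) (T.i k z)) := by
  rw [ker_stalkMap_of_isPullback (B := CommRingCat.of (A ⧸ J ^ (k + 2))) (B' := CommRingCat.of (A ⧸ J ^ (k + 1)))
    (T.cart k) (Ideal.Quotient.factor_surjective (Ideal.pow_le_pow_right (Nat.le_succ (k + 1)))) z,
    CommRingCat.hom_ofHom, Ideal.Quotient.factor_ker, ρ, Ideal.map_map]

theorem ker_stalkMap_ι (k : ℕ) (z : T.X 0) :
    RingHom.ker ((T.ι k).stalkMap z).hom = J.map (T.ρ k (T.ι k z)) := by
  rw [ker_stalkMap_of_isPullback (B := CommRingCat.of (A ⧸ J ^ (k + 1))) (B' := CommRingCat.of (A ⧸ J ^ (0 + 1)))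
    (T.sq_zero k) (toZero_surjective k) z, CommRingCat.hom_ofHom, ker_toZero, ρ, Ideal.map_map]

theorem locallyOfFiniteType_p [IsNoetherianRing A] [LocallyOfFiniteType (T.p 0)] (k : ℕ) :
    LocallyOfFiniteType (T.p k) := by
  haveI : IsClosedImmersion (Spec.map (CommRingCat.ofHom (toZero (A := A) (J := J) k))) :=
    IsClosedImmersion.spec_of_surjective _ (toZero_surjective k)
  haveI : LocallyOfFiniteType (T.ι k ≫ T.p k) := by rw [(T.sq_zero k).w]; infer_instance
  have hker : ∀ V : (T.X k).affineOpens, (T.ι k).ker.ideal V =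
      (RingHom.ker (toZero (A := A) (J := J) k)).map (AdicPicLib.baseHom (T.p k) V.1) := fun V => by
    rw [Scheme.Hom.ker_apply]
    exact AdicPicLib.ker_of_isPullback (T.p k) (toZero k) (toZero_surjective k) (T.sq_zero k) V.2
  refine ThickFTLib.locallyOfFiniteType_of_thickening (T.p k) (T.ι k) (fun V => ⟨k + 1, ?_⟩) fun U V _ => ?_
  · rw [hker, ker_toZero, Ideal.map_map, ← Ideal.map_pow, ← Ideal.map_map, Ideal.map_quotient_self, Ideal.map_bot,
      Ideal.zero_eq_bot]
  · rw [hker]
    exact ((ker_toZero (J := J) k).symm ▸ (Ideal.FG.map (IsNoetherian.noetherian J) _)).map _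

theorem isProper_p [IsNoetherianRing A] [IsProper (T.p 0)] (k : ℕ) : IsProper (T.p k) := by
  haveI := T.locallyOfFiniteType_p k
  haveI : IsClosedImmersion (Spec.map (CommRingCat.ofHom (toZero (A := A) (J := J) k))) :=
    IsClosedImmersion.spec_of_surjective _ (toZero_surjective k)
  haveI : IsProper (T.ι k ≫ T.p k) := by rw [(T.sq_zero k).w]; infer_instance
  exact FormalLib.isProper_of_surjective_closedImmersion (T.ι k) (T.p k)

theorem isNoetherian [IsNoetherianRing A] [IsProper (T.p 0)] (k : ℕ) : AlgebraicGeometry.IsNoetherian (T.X k) := by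
  haveI := T.isProper_p k
  haveI : IsNoetherianRing (CommRingCat.of (A ⧸ J ^ (k + 1))) := inferInstanceAs (IsNoetherianRing (A ⧸ J ^ (k + 1)))
  haveI : IsLocallyNoetherian (T.X k) := LocallyOfFiniteType.isLocallyNoetherian (T.p k)
  haveI : CompactSpace (T.X k) := QuasiCompact.compactSpace_of_compactSpace (T.p k)
  exact {}

end Tow

end Groth.Agent.FormalAmple
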