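import Groth.Agent.FormalAmpleLib.Sys
import Groth.Agent.FinSurjLib.Vanish
import Groth.Agent.AmpleEmb.Serre
import Groth.Agent.DevLib.Closed
import Groth.Agent.AmpleLib.Pullback

/-!
# Uniform vanishing on the thickenings
-/

set_option autoImplicit false
set_option linter.style.haveILetI false
set_option backward.isDefEq.respectTransparency false
set_option maxHeartbeats 1000000

universe u

open CategoryTheory CategoryTheory.Limits AlgebraicGeometry TopologicalSpace Opposite
open Groth.Agent.PullbackMod Groth.Agent.DCohLib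

noncomputable section

namespace Groth.Agent.FormalAmple

/-- A quasi-compact scheme with an ample sheaf has cohomology in bounded degrees. -/
theorem exists_degree_bound {R : Type u} [CommRing R] [IsNoetherianRing R] {X : Scheme.{u}}
    [AlgebraicGeometry.IsNoetherian X] (f : X ⟶ Spec (CommRingCat.of R)) [IsProper f] {L : X.Modules}
    (hL : CohB1.IsAmple L) :
    ∃ N : ℕ, ∀ (M : X.Modules), Coh.IsCoh M → ∀ q, N ≤ q → Subsingleton (Coh.HH X M q) := by
  rcases isEmpty_or_nonempty X with hX | hX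
  · refine ⟨1, fun M _ p hp => CurveLib.subsingleton_HH_of_dim _ (d := 0) ?_ (by omega)⟩
    refine Order.krullDim_nonpos_iff_forall_isMax.2 fun Z => ?_
    obtain ⟨x, -⟩ := Z.isIrreducible.1
    exact (hX.false x).elim
  let φ : R →+* Γ(X, ⊤) := ((Scheme.ΓSpecIso (CommRingCat.of R)).inv ≫ f.appTop).hom
  obtain ⟨E⟩ := AmpleEmb.exists_emb hL f φ rfl
  obtain ⟨N, hN, ⟨e⟩⟩ := AmpleEmb.exists_isInverseOf E.inv
  refine ⟨E.n + 2, fun M hM q hq => ?_⟩
  obtain ⟨p, rfl⟩ : ∃ p, q = p + 1 := ⟨q - 1, by omega⟩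
  let T₀ := (E.mulData e).tensor M
  have h0 : Coh.IsCoh (T₀.F 0) := CurveLib.isCoh_tmod hM (DevLib.isCoh_structureModule X)
  let T := T₀.toTwistData h0.1 E.isAffineOpen_inf
  exact CurveLib.subsingleton_HH_iso (DCohLib.tensorStructureIso M) (p + 1)
    (T.subsingleton_HH_of_card_le (Int.ofNat 0) p (by simp; omega))

variable {A : Type u} [CommRing A] [IsNoetherianRing A] {J : Ideal A} {T : Tow A J} [IsProper (T.p 0)]

theorem CohSys.isCoh_S (E : CohSys T) : ∀ k, Coh.IsCoh (E.S k)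
  | 0 => E.coh 0
  | k + 1 => by
    haveI := T.isNoetherian (k + 1)
    exact (QCohLib.isCoh_kernel_cokernel (E.π k) (E.coh (k + 1)) (DevLib.isCoh_pushforward_closed (T.i k) (E.coh k))).1

theorem CohSys.isCoh_K (E : CohSys T) (k : ℕ) : Coh.IsCoh (E.K k) :=
  PullbackMod.isCoh_pullback (T.ι k) _ (E.isCoh_S k)

theorem exists_system_iso (L : ∀ k, (T.X k).Modules)
    (φ : ∀ k, Nonempty ((Scheme.Modules.pullback (T.i k)).obj (L (k + 1)) ≅ L k)) :
    ∀ k, Nonempty ((Scheme.Modules.pullback (T.ι k)).obj (L k) ≅ L 0)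
  | 0 => ⟨(Scheme.Modules.pullbackId (T.X 0)).app _⟩
  | k + 1 => by
    obtain ⟨e⟩ := exists_system_iso L φ k
    exact ⟨((Scheme.Modules.pullbackComp (T.ι k) (T.i k)).app (L (k + 1))).symm ≪≫
      (Scheme.Modules.pullback (T.ι k)).mapIso (φ k).some ≪≫ e⟩

/-- Uniform vanishing on a tower of thickenings. -/
theorem exists_vanish (E : CohSys T) (L : ∀ k, (T.X k).Modules) (hL : ∀ k, PicF.IsInvertible (L k))
    (φ : ∀ k, Nonempty ((Scheme.Modules.pullback (T.i k)).obj (L (k + 1)) ≅ L k)) (ha : CohB1.IsAmple (L 0)) :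
    ∃ n₀ : ℕ, ∀ n, n₀ ≤ n → ∀ k q : ℕ, 0 < q →
      Subsingleton (Coh.HH (T.X k) (tmod (E.S k) (CohB1.tensorPow (L k) n)) q) ∧
      Subsingleton (Coh.HH (T.X k) (tmod (E.F k) (CohB1.tensorPow (L k) n)) q) := by
  classical
  haveI := T.isNoetherian 0
  obtain ⟨r, f, hf⟩ := Submodule.fg_iff_exists_fin_generating_family.1 (IsNoetherian.noetherian J)
  have hmem : ∀ j, f j ∈ J := fun j => by rw [← hf]; exact Submodule.subset_span ⟨j, rfl⟩
  haveI : IsClosedImmersion (CohB1.specQuot J 0) := IsClosedImmersion.spec_of_surjective _ Ideal.Quotient.mk_surjective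
  haveI : IsProper (T.p 0 ≫ CohB1.specQuot J 0) := inferInstance
  have hK : ∀ p : ℕ, ∃ d₀ : ℕ, ∀ k d : ℕ, d₀ ≤ d →
      Subsingleton (Coh.HH (T.X 0) (CohB1.tensorMod (E.K k) (CohB1.tensorPow (L 0) d)) (p + 1)) :=
    fun p => FormalSys.exists_uniform_vanishing (T.p 0 ≫ CohB1.specQuot J 0) ha (fun k => E.isCoh_K k)
      (fun j k => E.m k (hmem j)) (fun j k n => E.m_comm n (hmem k) (hmem j))
      (fun n => E.stalkGen_m f hf hmem n) p
  obtain ⟨N, hN⟩ := exists_degree_bound (T.p 0 ≫ CohB1.specQuot J 0) ha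
  choose d₀ hd₀ using hK
  let m := (Finset.range N).sup d₀
  refine ⟨m, fun n hn => ?_⟩
  have hS : ∀ k q : ℕ, 0 < q → Subsingleton (Coh.HH (T.X k) (tmod (E.S k) (CohB1.tensorPow (L k) n)) q) := by
    intro k q hq
    obtain ⟨p, rfl⟩ : ∃ p, q = p + 1 := ⟨q - 1, by omega⟩
    have hcoh : Coh.IsCoh (CohB1.tensorMod (E.K k) (CohB1.tensorPow (L 0) n)) :=
      CurveLib.isCoh_tmod (E.isCoh_K k) (CurveLib.isCoh_of_isInvertible (AmpleLib.isInvertible_tensorPow (hL 0) n))
    have h1 : Subsingleton (Coh.HH (T.X 0) (CohB1.tensorMod (E.K k) (CohB1.tensorPow (L 0) n)) (p + 1)) := by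
      by_cases hp : p + 1 < N
      · exact hd₀ p k n ((Finset.le_sup (f := d₀) (Finset.mem_range.2 (by omega))).trans hn)
      · exact hN _ hcoh _ (by omega)
    obtain ⟨e⟩ := exists_system_iso L φ k
    let c : tmod (E.K k) (CohB1.tensorPow (L 0) n) ≅
        tmod (E.K k) ((Scheme.Modules.pullback (T.ι k)).obj (CohB1.tensorPow (L k) n)) :=
      AmpleLib.tIso (Iso.refl _) (AmpleLib.pullPow (T.ι k) (L k) n ≪≫ AmpleLib.powCongr e n).symm
    have h2 := CurveLib.subsingleton_HH_iso c (p + 1) h1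
    haveI : Coh.IsQCoh (tmod (E.K k) ((Scheme.Modules.pullback (T.ι k)).obj (CohB1.tensorPow (L k) n))) :=
      (ProjCoh.isCoh_of_iso c hcoh).1
    have h3 := FinSurjLib.subsingleton_push_tmod (T.ι k) (AmpleLib.isInvertible_tensorPow (hL k) n) (E.K k) (p + 1) h2
    haveI := isIso_unit_of_suppOn (T.ι k) (E.suppOn_S k)
    exact CurveLib.subsingleton_HH_iso
      (AmpleLib.tIso (asIso ((Scheme.Modules.pullbackPushforwardAdjunction (T.ι k)).unit.app (E.S k))).symm
        (Iso.refl _)) (p + 1) h3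
  intro k q hq
  refine ⟨hS k q hq, ?_⟩
  induction k with
  | zero => exact hS 0 q hq
  | succ k ih =>
    haveI := T.isNoetherian (k + 1)
    have hses : (ShortComplex.mk (kernel.ι (E.π k)) (E.π k) (kernel.condition _)).ShortExact :=
      ShortComplex.ShortExact.mk' (ShortComplex.exact_of_f_is_kernel _ (kernelIsKernel _)) inferInstance inferInstance
    have hLn := AmpleLib.isInvertible_tensorPow (hL (k + 1)) n
    refine SerreAff.subsingleton_mid (CurveLib.shortExact_tensR hses (CurveLib.freeAt_one_of_isInvertible hLn)) q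
      (hS (k + 1) q hq) ?_
    let c : tmod (E.F k) (CohB1.tensorPow (L k) n) ≅
        tmod (E.F k) ((Scheme.Modules.pullback (T.i k)).obj (CohB1.tensorPow (L (k + 1)) n)) :=
      AmpleLib.tIso (Iso.refl _) (AmpleLib.pullPow (T.i k) (L (k + 1)) n ≪≫ AmpleLib.powCongr (φ k).some n).symm
    haveI : Coh.IsQCoh (tmod (E.F k) ((Scheme.Modules.pullback (T.i k)).obj (CohB1.tensorPow (L (k + 1)) n))) := by
      haveI := T.isNoetherian k
      exact (CurveLib.isCoh_tmod (E.coh k) (PullbackMod.isCoh_pullback (T.i k) _ (CurveLib.isCoh_of_isInvertible hLn))).1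
    exact FinSurjLib.subsingleton_push_tmod (T.i k) hLn (E.F k) q (CurveLib.subsingleton_HH_iso c q ih)

end Groth.Agent.FormalAmple
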